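import Groth.Agent.Lib.HopfAG.LineStab
import Mathlib.LinearAlgebra.TensorProduct.Basis

/-!
Coordinates of the translates of a vector in a representation, and the stabiliser of its line.
-/

universe u v

open TensorProduct WithConv
open GrothLib.Comodule (cfOf cfOf_apply)

namespace GrothLib.Chevalley

variable {k : Type u} [Field k] {A : Type u} [CommRing A] [HopfAlgebra k A]
  {V : Type v} [AddCommGroup V] [Module k V] [HopfRep.Comod k A V]
  {ι : Type*} (b : Module.Basis ι k V) (v : V)

local notation "ρ" => (HopfRep.Comod.coact (k := k) (A := A))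

variable (A) in
/-- The coordinates of the orbit of a vector. -/
noncomputable def coordFn (i : ι) : A := cfOf (inferInstance : HopfRep.Comod k A V) (b.coord i) v

variable {R : Type u} [CommRing R] [Algebra k R]

theorem repr_G (g : A →ₐ[k] R) (i : ι) :
    (Algebra.TensorProduct.basis R b).repr (PointAct.G g ((1 : R) ⊗ₜ[k] v)) i = g (coordFn A b v i) := by
  rw [PointAct.G_tmul, one_smul, coordFn, cfOf_apply]
  induction ρ v using TensorProduct.induction_on with
  | zero => simp
  | tmul p q => simp [Algebra.smul_def, mul_comm]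
  | add x y hx hy => simp only [map_add, Finsupp.add_apply, hx, hy]

theorem G_eq_smul_iff (g g' : A →ₐ[k] R) (r : R) :
    PointAct.G g' ((1 : R) ⊗ₜ[k] v) = r • PointAct.G g ((1 : R) ⊗ₜ[k] v) ↔
      ∀ i, g' (coordFn A b v i) = r * g (coordFn A b v i) := by
  rw [(Algebra.TensorProduct.basis R b).ext_elem_iff]
  refine forall_congr' fun i => ?_
  rw [map_smul, Finsupp.smul_apply, repr_G, repr_G, smul_eq_mul]

theorem stabilizesLine_iff (w : A →ₐ[k] R) :
    SGA3.StabilizesLine k A v R w ↔
      ∃ r : R, PointAct.G w ((1 : R) ⊗ₜ[k] v) = r • ((1 : R) ⊗ₜ[k] v) := by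
  refine exists_congr fun c => ?_
  rw [PointAct.G_tmul, one_smul, TensorProduct.smul_tmul', smul_eq_mul, mul_one,
    ← (TensorProduct.comm k V R).injective.eq_iff, TensorProduct.comm_tmul]

/-- Two points have proportional orbit coordinates iff their quotient stabilises the line. -/
theorem mul_stabilizesLine_iff (g w : A →ₐ[k] R) :
    SGA3.StabilizesLine k A v R w ↔
      ∃ r : R, ∀ i, (toConv g * toConv w).ofConv (coordFn A b v i) = r * g (coordFn A b v i) := by
  rw [stabilizesLine_iff]
  refine exists_congr fun r => ?_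
  rw [← G_eq_smul_iff, PointAct.G_mul, LinearMap.comp_apply, ← map_smul]
  refine ⟨fun h => by rw [h], fun h => ?_⟩
  have := congrArg (PointAct.G (V := V) (g.comp (HopfAlgebra.antipodeAlgHom k A))) h
  simpa only [← LinearMap.comp_apply, ← LinearMap.comp_assoc, PointAct.G_inv_comp, LinearMap.id_comp, LinearMap.id_apply] using this

/-- The orbit coordinates of a nonzero vector generate the unit ideal. -/
theorem span_coordFn [Fintype ι] (hv : v ≠ 0) : Ideal.span (Set.range (coordFn A b v)) = ⊤ := by
  set J := Ideal.span (Set.range (coordFn A b v))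
  set B := Algebra.TensorProduct.basis A b
  set z := PointAct.G (V := V) (AlgHom.id k A) ((1 : A) ⊗ₜ[k] v)
  set F := PointAct.G (V := V) ((AlgHom.id k A).comp (HopfAlgebra.antipodeAlgHom k A))
  have hF : F z = (1 : A) ⊗ₜ[k] v := LinearMap.congr_fun (PointAct.G_inv_comp (AlgHom.id k A)) _
  obtain ⟨j, hj⟩ : ∃ j, b.repr v j ≠ 0 := by
    by_contra h
    push Not at h
    exact hv (b.repr.map_eq_zero_iff.1 (Finsupp.ext h))
  have hmem : B.repr (F z) j ∈ J := by
    rw [← B.sum_repr z, map_sum, map_sum, Finsupp.finsetSum_apply]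
    refine J.sum_mem fun i _ => ?_
    rw [map_smul, map_smul, Finsupp.smul_apply, smul_eq_mul]
    refine J.mul_mem_right _ ?_
    rw [repr_G]
    exact Ideal.subset_span ⟨i, rfl⟩
  rw [hF] at hmem
  refine Ideal.eq_top_of_isUnit_mem _ hmem ?_
  simpa [B, ← Algebra.algebraMap_eq_smul_one] using (isUnit_iff_ne_zero.2 hj).map (algebraMap k A)

end GrothLib.Chevalley
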