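import Groth.Agent.Lib.Chevalley.OrbitCoord
import Groth.Agent.Lib.Chevalley.Stab
import Groth.Agent.Lib.ProjDim.Const
import Groth.Agent.Lib.MonoHom.ClosedImmersion
import Groth.Agent.Lib.Hopf.Translate
import Groth.Agent.Lib.FlatFactor.OrbitImmersion
import Groth.Agent.Lib.DiagGrp.Bihom
import Mathlib.AlgebraicGeometry.Group.Affine

/-!
The quotient of an affine algebraic group by a closed subgroup.
-/

universe u

open CategoryTheory CategoryTheory.Limits MonoidalCategory CartesianMonoidalCategory MonObj GrpObj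
open AlgebraicGeometry WithConv

namespace GrothLib.Chevalley

/-- The kernel of a surjection of Hopf algebras is a Hopf ideal. -/
theorem isHopfIdeal_ker {R : Type u} [CommRing R] {A B : Type u} [CommRing A] [CommRing B]
    [HopfAlgebra R A] [HopfAlgebra R B] (φ : A →ₐc[R] B) (hφ : Function.Surjective φ) :
    (RingHom.ker (φ : A →ₐ[R] B)).IsHopfIdeal R :=
  { counit_eq_zero := fun x hx => by
      rw [← CoalgHomClass.counit_comp_apply φ x, show φ x = 0 from hx, map_zero]
    map_mkQ_comul_eq_zero := fun x hx => by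
      have hs : Function.Surjective (φ : A →ₐ[R] B) := hφ
      let ψ : B →ₐ[R] A ⧸ RingHom.ker (φ : A →ₐ[R] B) :=
        (Ideal.quotientKerAlgEquivOfSurjective hs).symm.toAlgHom
      have h : ψ.comp (φ : A →ₐ[R] B) = Ideal.Quotient.mkₐ R _ := AlgHom.ext fun a => by
        apply (Ideal.quotientKerAlgEquivOfSurjective hs).injective
        simp [ψ]
      show Algebra.TensorProduct.map (Ideal.Quotient.mkₐ R (RingHom.ker (φ : A →ₐ[R] B)))
        (Ideal.Quotient.mkₐ R (RingHom.ker (φ : A →ₐ[R] B))) (Coalgebra.comul (R := R) x) = 0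
      have e := CoalgHomClass.map_comp_comul_apply φ x
      rw [show φ x = 0 from hx, map_zero] at e
      rw [← h, Algebra.TensorProduct.map_comp, AlgHom.comp_apply]
      exact (congrArg _ e).trans (map_zero _)
    antipode_mem := fun x hx => by
      show φ (HopfAlgebraStruct.antipode R x) = 0
      rw [← GrothLib.Hopf.bialgHom_antipode, show φ x = 0 from hx, map_zero] }

variable {k : Type u} [Field k]

local notation "S" => Spec (CommRingCat.of k)

/-- A monomorphism factorisation which exists locally exists globally. -/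
theorem exists_lift_of_cover {T : Over S} {H P : Over S} (i : H ⟶ P) [Mono i.left] (z : T ⟶ P)
    (𝒰 : T.left.OpenCover) (h : ∀ j, ∃ m, m ≫ i.left = 𝒰.f j ≫ z.left) :
    ∃ m : T ⟶ H, m ≫ i = z := by
  choose m hm using h
  let g := 𝒰.glueMorphisms m fun a b => by
    rw [← cancel_mono i.left, Category.assoc, Category.assoc, hm, hm, pullback.condition_assoc]
  have hg : g ≫ i.left = z.left := 𝒰.hom_ext _ _ fun j => by
    rw [← Category.assoc, 𝒰.ι_glueMorphisms, hm]
  refine ⟨Over.homMk g ?_, Over.OverMorphism.ext hg⟩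
  rw [← Over.w i, ← Category.assoc, hg, Over.w z]

/-- A map to projective space whose fibres are the cosets of a closed subgroup, for an affine group. -/
theorem exists_line_map_spec {A : Type u} [CommRing A] [HopfAlgebra k A] [Algebra.FiniteType k A]
    {H : Over S} [GrpObj H] (i : H ⟶ (Spec (CommRingCat.of A)).asOver S) [IsMonHom i]
    [IsClosedImmersion i.left] :
    ∃ (n : ℕ) (p : (Spec (CommRingCat.of A)).asOver S ⟶ Over.mk (CohB1.ProjSpace.toSpec n k)),
      ∀ (T : Over S) (x x' : T ⟶ (Spec (CommRingCat.of A)).asOver S),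
        x ≫ p = x' ≫ p ↔ ∃ h : T ⟶ H, x' = x * (h ≫ i) := by
  haveI : IsAffine ((Spec (CommRingCat.of A)).asOver S).left := inferInstanceAs (IsAffine (Spec (CommRingCat.of A)))
  have : IsAffine H.left := isAffine_of_isAffineHom i.left
  obtain ⟨H', ⟨e⟩⟩ := (essImage_hopfSpec (R := CommRingCat.of k) (G := Grp.mk H)).2 ‹_›
  obtain ⟨B, rfl⟩ : ∃ B, Opposite.op B = H' := ⟨H'.unop, rfl⟩
  let PB : Over S := (Spec (CommRingCat.of (B : Type u))).asOver S
  let f : PB ≅ H := (Grp.forget _).mapIso e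
  haveI : IsMonHom f.hom := e.hom.hom.isMonHom_hom
  let j : PB ⟶ (Spec (CommRingCat.of A)).asOver S := f.hom ≫ i
  let jG : (hopfSpec (CommRingCat.of k)).obj (Opposite.op B) ⟶
      (hopfSpec (CommRingCat.of k)).obj (Opposite.op (CommHopfAlgCat.of k A)) := (Grp.ofHom j : Grp.mk PB ⟶ Grp.mk ((Spec (CommRingCat.of A)).asOver S))
  obtain ⟨π', hπ'⟩ := (hopfSpec.fullyFaithful (R := CommRingCat.of k)).map_surjective jG
  let π : A →ₐc[k] (B : Type u) := π'.unop.hom
  have hj : j.left = Spec.map (CommRingCat.ofHom (π : A →ₐ[k] (B : Type u)).toRingHom) :=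
    (congrArg (fun t => t.hom.hom.left) hπ').symm
  haveI : IsIso f.hom.left := inferInstanceAs (IsIso ((Over.forget _).map f.hom))
  haveI : IsClosedImmersion j.left := by
    show IsClosedImmersion (f.hom.left ≫ i.left)
    infer_instance
  have hπ : Function.Surjective π := by
    have : IsClosedImmersion (Spec.map (CommRingCat.ofHom (π : A →ₐ[k] (B : Type u)).toRingHom)) := hj ▸ ‹_›
    intro b
    obtain ⟨a', ha'⟩ := (IsClosedImmersion.isAffine_surjective_of_isAffine
      (Spec.map (CommRingCat.ofHom (π : A →ₐ[k] (B : Type u)).toRingHom))).2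
        ((Scheme.ΓSpecIso (CommRingCat.of (B : Type u))).inv b)
    obtain ⟨a, rfl⟩ := (ConcreteCategory.bijective_of_isIso (Scheme.ΓSpecIso (CommRingCat.of A)).inv).2 a'
    refine ⟨a, (ConcreteCategory.bijective_of_isIso (Scheme.ΓSpecIso (CommRingCat.of (B : Type u))).inv).1 ?_⟩
    exact (congr($(Scheme.ΓSpecIso_inv_naturality
      (CommRingCat.ofHom (π : A →ₐ[k] (B : Type u)).toRingHom)).hom a)).trans ha'
  let I : Ideal A := RingHom.ker (π : A →ₐ[k] (B : Type u))
  haveI : I.IsHopfIdeal k := isHopfIdeal_ker π hπ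
  obtain ⟨V, _, _, _, _, v, hv, hrep⟩ := GrothLib.LineStab.exists_line (k := k) I
  obtain ⟨n, hn⟩ : ∃ n, Module.finrank k V = n + 1 :=
    ⟨Module.finrank k V - 1, (Nat.succ_pred_eq_of_pos
      (Module.finrank_pos_iff_exists_ne_zero.2 ⟨v, hv⟩)).symm⟩
  let b := Module.finBasisOfFinrankEq k V hn
  let c := coordFn A b v
  have hc : Ideal.span (Set.range c) = ⊤ := span_coordFn b v hv
  let p : (Spec (CommRingCat.of A)).asOver S ⟶ Over.mk (CohB1.ProjSpace.toSpec n k) :=
    Over.homMk (coordMap (k := k) c hc) (coordMap_toSpec c hc)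
  refine ⟨n, p, ?_⟩
  -- affine points
  have haff : ∀ (R : Type u) [CommRing R] [Algebra k R]
      (x x' : (Spec (CommRingCat.of R)).asOver S ⟶ (Spec (CommRingCat.of A)).asOver S),
      x ≫ p = x' ≫ p ↔ ∃ h : (Spec (CommRingCat.of R)).asOver S ⟶ H, x' = x * (h ≫ i) := by
    intro R _ _ x x'
    obtain ⟨g, rfl⟩ := Spec.mapMulEquiv.surjective x
    obtain ⟨w, hw⟩ := Spec.mapMulEquiv.surjective ((Spec.mapMulEquiv g)⁻¹ * x')
    have hx' : x' = Spec.mapMulEquiv (g * w) := by rw [map_mul, hw, mul_inv_cancel_left]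
    have h1 : (Spec.mapMulEquiv g ≫ p = x' ≫ p) ↔ ∃ r : R, ∀ m, (g * w).ofConv (c m) = r * g.ofConv (c m) := by
      rw [hx', ← comp_coordMap_eq_iff c hc g.ofConv (g * w).ofConv]
      exact ⟨fun h => congrArg (·.left) h, fun h => Over.OverMorphism.ext h⟩
    have h2 : (∃ r : R, ∀ m, (g * w).ofConv (c m) = r * g.ofConv (c m)) ↔ ∀ a ∈ I, w.ofConv a = 0 := by
      exact (mul_stabilizesLine_iff b v g.ofConv w.ofConv).symm.trans (hrep R w.ofConv).symm
    rw [h1, h2]
    constructor
    · intro hI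
      let hB : (B : Type u) →ₐ[k] R :=
        (Ideal.Quotient.liftₐ I w.ofConv hI).comp (Ideal.quotientKerAlgEquivOfSurjective hπ).symm.toAlgHom
      have hBπ : hB.comp (π : A →ₐ[k] (B : Type u)) = w.ofConv := AlgHom.ext fun a => by
        have : (Ideal.quotientKerAlgEquivOfSurjective hπ).symm (π a) = Ideal.Quotient.mk I a :=
          (Ideal.quotientKerAlgEquivOfSurjective hπ).injective (by simp; rfl)
        exact congrArg (Ideal.Quotient.liftₐ I w.ofConv hI) this
      refine ⟨Spec.mapMulEquiv (toConv hB) ≫ f.hom, ?_⟩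
      rw [hx', map_mul, Category.assoc]
      congr 1
      refine Over.OverMorphism.ext ?_
      show Spec.map (CommRingCat.ofHom w.ofConv.toRingHom) =
        Spec.map (CommRingCat.ofHom hB.toRingHom) ≫ j.left
      rw [hj, ← hBπ]
      exact Spec.map_comp (CommRingCat.ofHom (π : A →ₐ[k] (B : Type u)).toRingHom) (CommRingCat.ofHom hB.toRingHom)
    · rintro ⟨h, hh⟩ a ha
      obtain ⟨hB, hhB⟩ := Spec.mapMulEquiv.surjective (h ≫ f.inv)
      rw [hx', map_mul, mul_right_inj] at hh
      have e1 : Spec.map (CommRingCat.ofHom w.ofConv.toRingHom) =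
          Spec.map (CommRingCat.ofHom hB.ofConv.toRingHom) ≫ j.left := by
        have : Spec.mapMulEquiv w = Spec.mapMulEquiv hB ≫ j := by
          rw [hhB, hh]; simp [j]
        exact congrArg (·.left) this
      rw [hj] at e1
      replace e1 := e1.trans (Spec.map_comp _ _).symm
      have e2 := congr($(Spec.map_injective e1).hom a)
      exact e2.trans ((congrArg hB.ofConv (show π a = 0 from ha)).trans (map_zero _))
  intro T x x'
  -- the affine cover
  have hU : ∀ a : T.left.affineCover.I₀, ∃ (R : Type u) (_ : CommRing R) (_ : Algebra k R)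
      (u : (Spec (CommRingCat.of R)).asOver S ⟶ T) (e : Spec (CommRingCat.of R) = T.left.affineCover.X a),
      u.left = eqToHom e ≫ T.left.affineCover.f a := by
    intro a
    obtain ⟨R, hR⟩ : ∃ R : CommRingCat.{u}, T.left.affineCover.X a = Spec R := ⟨_, rfl⟩
    let _ : Algebra k R :=
      (Spec.preimage (eqToHom hR.symm ≫ T.left.affineCover.f a ≫ T.hom)).hom.toAlgebra
    refine ⟨R, inferInstance, inferInstance, Over.homMk (eqToHom hR.symm ≫ T.left.affineCover.f a) ?_,
      hR.symm, rfl⟩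
    show (eqToHom hR.symm ≫ T.left.affineCover.f a) ≫ T.hom = Spec.map (CommRingCat.ofHom (algebraMap k R))
    rw [Category.assoc, ← Spec.map_preimage (eqToHom hR.symm ≫ T.left.affineCover.f a ≫ T.hom)]
    rfl
  constructor
  · intro he
    have hloc : ∀ a, ∃ m, m ≫ i.left = T.left.affineCover.f a ≫ (x⁻¹ * x').left := by
      intro a
      obtain ⟨R, _, _, u, e, hu⟩ := hU a
      obtain ⟨h, hh⟩ := (haff R (u ≫ x) (u ≫ x')).1 (by rw [Category.assoc, Category.assoc, he])
      refine ⟨eqToHom e.symm ≫ h.left, ?_⟩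
      have : u ≫ (x⁻¹ * x') = h ≫ i := by rw [MonObj.comp_mul, GrpObj.comp_inv, hh, inv_mul_cancel_left]
      have hh2 : h.left ≫ i.left = (eqToHom e ≫ T.left.affineCover.f a) ≫ (x⁻¹ * x').left :=
        (congrArg (fun t => t.left) this).symm.trans (congrArg (· ≫ (x⁻¹ * x').left) hu)
      exact (Category.assoc _ _ _).trans ((congrArg (eqToHom e.symm ≫ ·) hh2).trans (by simp))
    obtain ⟨h, hh⟩ := exists_lift_of_cover i _ _ hloc
    exact ⟨h, by rw [hh, mul_inv_cancel_left]⟩
  · rintro ⟨h, rfl⟩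
    refine Over.OverMorphism.ext (T.left.affineCover.hom_ext _ _ fun a => ?_)
    obtain ⟨R, _, _, u, e, hu⟩ := hU a
    have := congrArg (·.left) ((haff R (u ≫ x) (u ≫ (x * (h ≫ i)))).2 ⟨u ≫ h, by
      rw [MonObj.comp_mul, Category.assoc]⟩)
    simp only [Over.comp_left, hu, Category.assoc] at this ⊢
    exact (cancel_epi (eqToHom e)).1 this

/-- A map to projective space whose fibres are the cosets of a closed subgroup. -/
theorem exists_line_map {G H : Over S} [GrpObj G] [GrpObj H] [IsAffine G.left] [LocallyOfFiniteType G.hom]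
    (i : H ⟶ G) [IsMonHom i] [IsClosedImmersion i.left] :
    ∃ (n : ℕ) (p : G ⟶ Over.mk (CohB1.ProjSpace.toSpec n k)),
      ∀ (T : Over S) (x x' : T ⟶ G), x ≫ p = x' ≫ p ↔ ∃ h : T ⟶ H, x' = x * (h ≫ i) := by
  obtain ⟨A', ⟨e⟩⟩ := (essImage_hopfSpec (R := CommRingCat.of k) (G := Grp.mk G)).2 ‹_›
  obtain ⟨A, rfl⟩ : ∃ A, Opposite.op A = A' := ⟨A'.unop, rfl⟩
  let P : Over S := (Spec (CommRingCat.of (A : Type u))).asOver S
  let f : P ≅ G := (Grp.forget _).mapIso e
  haveI : IsMonHom f.inv := e.inv.hom.isMonHom_hom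
  haveI : IsMonHom f.hom := e.hom.hom.isMonHom_hom
  haveI : Algebra.FiniteType k (A : Type u) := by
    have : LocallyOfFiniteType P.hom := by
      rw [← Over.w f.hom]
      haveI : IsIso f.hom.left := inferInstanceAs (IsIso ((Over.forget _).map f.hom))
      infer_instance
    exact RingHom.finiteType_algebraMap.1
      ((HasRingHomProperty.Spec_iff (P := @LocallyOfFiniteType)).1 this)
  haveI : IsClosedImmersion (i ≫ f.inv).left := by
    haveI : IsIso f.inv.left := inferInstanceAs (IsIso ((Over.forget _).map f.inv))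
    rw [Over.comp_left]
    infer_instance
  obtain ⟨n, p, hp⟩ := exists_line_map_spec (i ≫ f.inv)
  refine ⟨n, f.inv ≫ p, fun T x x' => ?_⟩
  rw [← Category.assoc, ← Category.assoc, hp]
  refine exists_congr fun h => ?_
  rw [← cancel_mono f.hom, MonObj.mul_comp]
  simp only [Category.assoc, Iso.inv_hom_id, Category.comp_id]

/-- Chevalley: the quotient of an affine algebraic group by a subgroup. -/
theorem exists_affine_quotient {G H : Over S} [GrpObj G] [GrpObj H] [IsAffine G.left]
    [LocallyOfFiniteType G.hom] (i : H ⟶ G) [IsMonHom i] [IsClosedImmersion i.left] :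
    ∃ (n : ℕ) (X : Over S) (a : AlgGrp.Action G X) (o : 𝟙_ (Over S) ⟶ X)
      (m : X ⟶ Over.mk (CohB1.ProjSpace.toSpec n k)), Mono m.left ∧
      LocallyOfFiniteType X.hom ∧ QuasiCompact X.hom ∧
      Flat (a.orbitMap o).left ∧ Surjective (a.orbitMap o).left ∧
      IsPullback (fst G H) ((G ◁ i) ≫ μ[G]) (a.orbitMap o) (a.orbitMap o) := by
  obtain ⟨n, p, hp⟩ := exists_line_map i
  haveI : Mono i.left := inferInstance
  haveI : Mono i := (Over.forget _).mono_of_mono_map ‹Mono i.left›
  have hsq : ∀ {Y : Over S} (r : G ⟶ Y),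
      (∀ (T : Over S) (x x' : T ⟶ G), x ≫ r = x' ≫ r ↔ ∃ h : T ⟶ H, x' = x * (h ≫ i)) →
      IsPullback (fst G H) ((G ◁ i) ≫ μ[G]) r r := by
    intro Y r hr
    have w : fst G H ≫ r = ((G ◁ i) ≫ μ[G]) ≫ r := by
      apply GrothLib.GrpSchField.hom_ext_points₂
      intro T g h
      rw [← Category.assoc, lift_fst, ← Category.assoc, lift_whiskerLeft_assoc, ← Hom.mul_def]
      exact (hr T g _).2 ⟨h, rfl⟩
    refine IsPullback.of_isLimit' ⟨w⟩ (PullbackCone.isLimitAux _
      (fun s => lift s.fst ((hr _ s.fst s.snd).1 s.condition).choose) (fun s => lift_fst _ _) ?_ ?_)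
    · intro s
      show lift _ _ ≫ ((G ◁ i) ≫ μ[G]) = _
      rw [lift_whiskerLeft_assoc, ← Hom.mul_def]
      exact ((hr _ s.fst s.snd).1 s.condition).choose_spec.symm
    · intro s (m : s.pt ⟶ G ⊗ H) hm
      have h1 : m ≫ fst G H = s.fst := hm WalkingCospan.left
      have h2 : m ≫ ((G ◁ i) ≫ μ[G]) = s.snd := hm WalkingCospan.right
      rw [← GrothLib.GrpSchField.lift_fst_snd_comp m, h1]
      congr 1
      rw [← cancel_mono i]
      have h3 := ((hr _ s.fst s.snd).1 s.condition).choose_spec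
      rw [← GrothLib.GrpSchField.lift_fst_snd_comp m, lift_whiskerLeft_assoc, ← Hom.mul_def, h1,
        h3, mul_right_inj] at h2
      exact h2
  have hflat : Flat (pullback.fst p.left p.left) := by
    have sq := (hsq p hp).map (Over.forget _)
    haveI : Flat H.hom := GrothLib.DiagGrp.flat_of_field _
    haveI : Flat (fst G H).left := inferInstanceAs (Flat (pullback.fst G.hom H.hom))
    have : sq.isoPullback.inv ≫ ((Over.forget _).map (fst G H)) = pullback.fst p.left p.left :=
      sq.isoPullback_inv_fst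
    rw [← this]
    exact MorphismProperty.comp_mem @Flat _ _ inferInstance ‹Flat (fst G H).left›
  haveI := GrothLib.ProjDim.locallyOfFiniteType_toSpec k n
  haveI : IsLocallyNoetherian (CohB1.ProjSpace n k) :=
    LocallyOfFiniteType.isLocallyNoetherian (CohB1.ProjSpace.toSpec n k)
  haveI : LocallyOfFiniteType p.left := by
    have : LocallyOfFiniteType (p.left ≫ CohB1.ProjSpace.toSpec n k) := by
      rw [show p.left ≫ CohB1.ProjSpace.toSpec n k = G.hom from Over.w p]; infer_instance
    exact locallyOfFiniteType_of_comp p.left (CohB1.ProjSpace.toSpec n k)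
  haveI : IsLocallyNoetherian (Over.mk (CohB1.ProjSpace.toSpec n k)).left :=
    ‹IsLocallyNoetherian (CohB1.ProjSpace n k)›
  haveI : LocallyOfFinitePresentation p.left := inferInstance
  obtain ⟨Q₀, f', f'', hs, hf, hlfp, hm, hmt, hw⟩ := GrothLib.FlatFactor.exists_factor p.left
  let Q : Over S := Over.mk (f'' ≫ CohB1.ProjSpace.toSpec n k)
  let f : G ⟶ Q := Over.homMk f' (by
    show f' ≫ f'' ≫ CohB1.ProjSpace.toSpec n k = G.hom
    rw [← Category.assoc, hw]; exact Over.w p)
  let m : Q ⟶ Over.mk (CohB1.ProjSpace.toSpec n k) := Over.homMk f'' rfl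
  have hfm : f ≫ m = p := Over.OverMorphism.ext hw
  haveI : Mono m.left := hm
  haveI : Mono m := (Over.forget _).mono_of_mono_map ‹Mono m.left›
  haveI : Flat f.left := hf
  haveI : Surjective f.left := hs
  haveI : LocallyOfFinitePresentation f.left := hlfp
  have hr : ∀ (T : Over S) (x x' : T ⟶ G), x ≫ f = x' ≫ f ↔ ∃ h : T ⟶ H, x' = x * (h ≫ i) :=
    fun T x x' => by rw [← hp, ← hfm, ← Category.assoc, ← Category.assoc, cancel_mono m]
  haveI : CompactSpace G.left := inferInstance
  haveI : CompactSpace Q.left := f.left.surjective.compactSpace f.left.continuous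
  obtain ⟨_, _, _⟩ := GrothLib.FlatFactor.cover_whiskerLeft f G
  obtain ⟨d, hd⟩ := GrothLib.DiagGrp.exists_desc (G ◁ f) (μ[G] ≫ f) fun T t t' htt => by
    obtain ⟨g, x, rfl⟩ : ∃ g x, t = lift g x :=
      ⟨t ≫ fst G G, t ≫ snd G G, (GrothLib.GrpSchField.lift_fst_snd_comp t).symm⟩
    obtain ⟨g', y, rfl⟩ : ∃ g' y, t' = lift g' y :=
      ⟨t' ≫ fst G G, t' ≫ snd G G, (GrothLib.GrpSchField.lift_fst_snd_comp t').symm⟩
    rw [lift_whiskerLeft, lift_whiskerLeft] at htt
    have hg : g = g' := by simpa using congrArg (· ≫ fst G Q) htt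
    have hxy : x ≫ f = y ≫ f := by simpa using congrArg (· ≫ snd G Q) htt
    subst hg
    obtain ⟨h, rfl⟩ := (hr T x y).1 hxy
    rw [← Category.assoc, ← Category.assoc, ← Hom.mul_def, ← Hom.mul_def]
    exact (hr T _ _).2 ⟨h, (_root_.mul_assoc _ _ _).symm⟩
  obtain ⟨_, _, _⟩ := GrothLib.FlatFactor.cover_whiskerLeft f (𝟙_ (Over S))
  obtain ⟨_, _, _⟩ := GrothLib.FlatFactor.cover_whiskerLeft f (G ⊗ G)
  haveI : Epi (𝟙_ (Over S) ◁ f) := (Over.forget _).epi_of_epi_map
    (inferInstanceAs (Epi (𝟙_ (Over S) ◁ f).left))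
  haveI : Epi ((G ⊗ G) ◁ f) := (Over.forget _).epi_of_epi_map
    (inferInstanceAs (Epi ((G ⊗ G) ◁ f).left))
  let act : AlgGrp.Action G Q :=
    { act := d
      one_act := by
        rw [← cancel_epi (𝟙_ (Over S) ◁ f), whisker_exchange_assoc, hd, ← Category.assoc,
          MonObj.one_mul, leftUnitor_naturality]
      mul_act := by
        rw [← cancel_epi ((G ⊗ G) ◁ f), whisker_exchange_assoc, hd, associator_naturality_right_assoc,
          ← MonoidalCategory.whiskerLeft_comp_assoc, hd, MonoidalCategory.whiskerLeft_comp_assoc, hd,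
          MonObj.mul_assoc_assoc] }
  have horb : act.orbitMap (η[G] ≫ f) = f := by
    show lift (𝟙 G) (toUnit G ≫ η[G] ≫ f) ≫ d = f
    rw [← Category.assoc, ← Hom.one_def, ← lift_whiskerLeft, Category.assoc, hd, ← Category.assoc,
      ← Hom.mul_def, _root_.mul_one, Category.id_comp]
  refine ⟨n, Q, act, η[G] ≫ f, m, hm, inferInstanceAs (LocallyOfFiniteType (f'' ≫ CohB1.ProjSpace.toSpec n k)),
    inferInstance, ?_, ?_, ?_⟩
  · rw [horb]; infer_instance
  · rw [horb]; infer_instance
  · rw [horb]; exact hsq f hr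

end GrothLib.Chevalley
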