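import Groth.Agent.Lib.Chevalley.Invariant
import Groth.Agent.Lib.Chevalley.Exists
import Groth.Agent.Lib.Hopf.FiniteRank
import Groth.Agent.Lib.Hopf.Faithful
import Groth.Agent.Lib.HopfAG.PointSub
import Groth.Agent.Lib.Hopf.PointLift
import Groth.Agent.Lib.Thickening.Affine
import Groth.Agent.Lib.EtSite.FpqcDescent
import Groth.Prelude.Def_Red

/-!
A group scheme receiving a surjective homomorphism from an affine algebraic group is affine.
-/

universe u

open CategoryTheory CategoryTheory.Limits MonoidalCategory CartesianMonoidalCategory MonObj GrpObj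
open AlgebraicGeometry WithConv

namespace GrothLib.Chevalley

variable {k : Type u} [Field k]

local notation "S" => Spec (CommRingCat.of k)

/-- An affine point of a scheme over the base. -/
theorem exists_affine_pts {T : Over S} (a : T.left.affineCover.I₀) :
    ∃ (R : Type u) (_ : CommRing R) (_ : Algebra k R)
      (u : (Spec (CommRingCat.of R)).asOver S ⟶ T) (e : Spec (CommRingCat.of R) = T.left.affineCover.X a),
      u.left = eqToHom e ≫ T.left.affineCover.f a := by
  obtain ⟨R, hR⟩ : ∃ R : CommRingCat.{u}, T.left.affineCover.X a = Spec R := ⟨_, rfl⟩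
  let _ : Algebra k R :=
    (Spec.preimage (eqToHom hR.symm ≫ T.left.affineCover.f a ≫ T.hom)).hom.toAlgebra
  refine ⟨R, inferInstance, inferInstance, Over.homMk (eqToHom hR.symm ≫ T.left.affineCover.f a) ?_,
    hR.symm, rfl⟩
  show (eqToHom hR.symm ≫ T.left.affineCover.f a) ≫ T.hom = Spec.map (CommRingCat.ofHom (algebraMap k R))
  rw [Category.assoc, ← Spec.map_preimage (eqToHom hR.symm ≫ T.left.affineCover.f a ≫ T.hom)]
  rfl

/-- Morphisms over the base agree if they agree on affine points. -/
theorem hom_ext_affine {T X : Over S} {f g : T ⟶ X}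
    (h : ∀ (R : Type u) [CommRing R] [Algebra k R] (u : (Spec (CommRingCat.of R)).asOver S ⟶ T), u ≫ f = u ≫ g) :
    f = g := by
  refine Over.OverMorphism.ext (T.left.affineCover.hom_ext _ _ fun a => ?_)
  obtain ⟨R, _, _, u, e, hu⟩ := exists_affine_pts (k := k) (T := T) a
  have := congrArg (·.left) (h R u)
  simp only [Over.comp_left, hu, Category.assoc] at this
  exact (cancel_epi (eqToHom e)).1 this

section Core

variable {A : Type u} [CommRing A] [HopfAlgebra k A]
  {Q : Over (Spec (CommRingCat.of k))} [GrpObj Q]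

local notation "GA" => Scheme.asOver (Spec (CommRingCat.of A)) (Spec (CommRingCat.of k))

/-- The kernel of a homomorphism from an affine group to a separated group, as a Hopf ideal. -/
theorem exists_ker_ideal [IsSeparated Q.hom] (q : GA ⟶ Q) [IsMonHom q] :
    ∃ (I : Ideal A), I.IsHopfIdeal k ∧ IsNormalPts k I ∧
      ∀ (R : Type u) [CommRing R] [Algebra k R] (w : WithConv (A →ₐ[k] R)),
        Spec.mapMulEquiv w ≫ q = 1 ↔ Kills I w := by
  have : IsClosedImmersion η[Q].left := by
    have h : η[Q].left ≫ Q.hom = 𝟙 _ := Over.w η[Q]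
    have : IsClosedImmersion (η[Q].left ≫ Q.hom) := by rw [h]; infer_instance
    exact IsClosedImmersion.of_comp η[Q].left Q.hom
  let i₀ : pullback q.left η[Q].left ⟶ Spec (CommRingCat.of A) := pullback.fst q.left η[Q].left
  have : IsClosedImmersion i₀ :=
    inferInstanceAs (IsClosedImmersion (pullback.fst q.left η[Q].left))
  obtain ⟨I, e, he⟩ := (IsClosedImmersion.Spec_iff (f := i₀)).1 this
  have hI : ∀ (R : Type u) [CommRing R] [Algebra k R] (w : WithConv (A →ₐ[k] R)),
      Spec.mapMulEquiv w ≫ q = 1 ↔ Kills I w := by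
    intro R _ _ w
    constructor
    · intro h
      have h' : (Spec.mapMulEquiv w).left ≫ q.left =
          (toUnit ((Spec (CommRingCat.of R)).asOver S)).left ≫ η[Q].left := by
        rw [← Over.comp_left, ← Over.comp_left, h, Hom.one_def]
      let l : Spec (CommRingCat.of R) ⟶ pullback q.left η[Q].left := pullback.lift _ _ h'
      have hl : (l ≫ e.hom) ≫ Spec.map (CommRingCat.ofHom (Ideal.Quotient.mk I)) =
          Spec.map (CommRingCat.ofHom w.ofConv.toRingHom) :=
        ((Category.assoc _ _ _).trans (congrArg (l ≫ ·) he.symm)).trans (pullback.lift_fst _ _ _)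
      obtain ⟨ψ, hψ⟩ := Spec.map_surjective (l ≫ e.hom)
      rw [← hψ, ← Spec.map_comp] at hl
      intro a ha
      have h2 := congr($(Spec.map_injective hl).hom a)
      refine h2.symm.trans ?_
      show ψ.hom (Ideal.Quotient.mk I a) = 0
      rw [Ideal.Quotient.eq_zero_iff_mem.2 ha, map_zero]
    · intro h
      obtain ⟨σ, hσ⟩ := exists_of_kills I h
      have hl : (Spec.map (CommRingCat.ofHom σ.toRingHom) ≫ e.inv) ≫ i₀ = (Spec.mapMulEquiv w).left := by
        rw [he, Category.assoc, e.inv_hom_id_assoc, ← Spec.map_comp]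
        show _ = Spec.map (CommRingCat.ofHom w.ofConv.toRingHom)
        rw [← hσ]
        rfl
      let X := Spec.map (CommRingCat.ofHom σ.toRingHom) ≫ e.inv
      have hc := pullback.condition (f := q.left) (g := η[Q].left)
      have hη : η[Q].left ≫ Q.hom = 𝟙 _ := Over.w η[Q]
      have e2 : X ≫ pullback.snd q.left η[Q].left = ((Spec (CommRingCat.of R)).asOver S).hom := by
        have e3 := congrArg (fun t => X ≫ t ≫ Q.hom) hc
        simp only [Category.assoc] at e3
        rw [hη, Over.w q] at e3
        refine ((Category.comp_id _).symm.trans ((Category.assoc _ _ _).trans e3.symm)).trans ?_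
        rw [← Over.w (Spec.mapMulEquiv w)]
        exact (Category.assoc _ _ _).symm.trans (congrArg (· ≫ ((Spec (CommRingCat.of A)).asOver S).hom) hl)
      refine Over.OverMorphism.ext ?_
      rw [Hom.one_def, Over.comp_left, Over.comp_left]
      refine (congrArg (· ≫ q.left) hl.symm).trans ((Category.assoc _ _ _).trans ((congrArg (X ≫ ·) hc).trans
        ((Category.assoc _ _ _).symm.trans (congrArg (· ≫ η[Q].left) e2))))
  refine ⟨I, ?_, fun R _ _ g w hw => ?_, hI⟩
  · have hmk : Spec.mapMulEquiv (toConv (Ideal.Quotient.mkₐ k I)) ≫ q = 1 :=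
      (hI _ _).2 fun a ha => Ideal.Quotient.eq_zero_iff_mem.2 ha
    refine GrothLib.Hopf.FiniteRank.isHopfIdeal_of I ?_ ?_ ?_
    · intro a ha
      have : Kills I (1 : WithConv (A →ₐ[k] k)) := (hI k 1).1 (by rw [map_one, MonObj.one_comp])
      exact (this a ha : algebraMap k k (Coalgebra.counit a) = 0)
    · intro a ha
      have h1 : Kills I (toConv (Algebra.TensorProduct.includeLeft.comp (Ideal.Quotient.mkₐ k I)) *
          toConv (Algebra.TensorProduct.includeRight.comp (Ideal.Quotient.mkₐ k I)) :
          WithConv (A →ₐ[k] TensorProduct k (A ⧸ I) (A ⧸ I))) := by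
        refine (hI _ _).1 ?_
        rw [map_mul, MonObj.mul_comp,
          (hI _ _).2 (fun a ha => by simp [Ideal.Quotient.eq_zero_iff_mem.2 ha]),
          (hI _ _).2 (fun a ha => by simp [Ideal.Quotient.eq_zero_iff_mem.2 ha]), _root_.one_mul]
      rw [show Bialgebra.comulAlgHom k A a = Coalgebra.comul (R := k) a from rfl, map_comul_eq]
      exact h1 a ha
    · intro a ha
      have h1 : Kills I (toConv (Ideal.Quotient.mkₐ k I) : WithConv (A →ₐ[k] A ⧸ I))⁻¹ := by
        refine (hI _ _).1 ?_
        rw [map_inv, GrpObj.inv_comp, hmk, inv_one]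
      exact Ideal.Quotient.eq_zero_iff_mem.1 (h1 a ha)
  · refine (hI _ _).1 ?_
    rw [map_mul, map_mul, map_inv, MonObj.mul_comp, MonObj.mul_comp, GrpObj.inv_comp,
      (hI _ _).2 hw, _root_.mul_one, mul_inv_cancel]

variable [IsAlgClosed k] [Algebra.FiniteType k A] [_root_.IsReduced A]

/-- A group scheme receiving a surjective homomorphism from a reduced affine group over an algebraically
closed field is affine. -/
theorem isAffine_of_surjective_hom_spec [LocallyOfFiniteType Q.hom] (q : GA ⟶ Q) [IsMonHom q]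
    [Surjective q.left] : IsAffine Q.left := by
  have : IsSeparated Q.hom := GrothLib.GrpSchField.isSeparated Q
  obtain ⟨I, hHopf, hN, hI⟩ := exists_ker_ideal q
  -- finitely many invariant functions cut out the kernel
  let J : Ideal A := Ideal.span ((fun c => c - algebraMap k A (Coalgebra.counit c)) '' (invariants k I : Set A))
  have : IsNoetherianRing A := Algebra.FiniteType.isNoetherianRing k A
  obtain ⟨s, hsT, hs⟩ := Submodule.fg_span_iff_fg_span_finset_subset _ |>.1 (IsNoetherian.noetherian J)
  classical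
  choose f hf hfs using fun x : (s : Set A) => hsT x.2
  have hinv := isHopfSubalgebra_invariants hN
  letI := GrothLib.Hopf.Sub.hopfAlgebra hinv
  obtain ⟨C', hC'fg, hC', hsC⟩ := GrothLib.Hopf.Sub.exists_fg (k := k)
    (Finset.univ.image fun x : (s : Set A) => (⟨f x, hf x⟩ : invariants k I))
  letI := GrothLib.Hopf.Sub.hopfAlgebra hC'
  haveI : Algebra.FiniteType k ↥C' := ⟨(Subalgebra.fg_top C').mpr hC'fg⟩
  let φ : ↥C' →ₐc[k] A := (GrothLib.Hopf.Sub.valHom hinv).comp (GrothLib.Hopf.Sub.valHom hC')
  have hφinj : Function.Injective φ := fun x y h => Subtype.ext (Subtype.ext h)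
  have hφinv : ∀ c, φ c ∈ invariants k I := fun c => ((c : invariants k I)).2
  letI := ((φ : ↥C' →ₐ[k] A) : ↥C' →+* A).toAlgebra
  have hff : Module.FaithfullyFlat ↥C' A := GrothLib.Hopf.faithfullyFlat φ (fun _ => rfl) hφinj
  -- agreement on C' is congruence modulo the kernel
  have hagree : ∀ (R : Type u) [CommRing R] [Algebra k R] (g g' : WithConv (A →ₐ[k] R)),
      Spec.mapMulEquiv g ≫ q = Spec.mapMulEquiv g' ≫ q ↔
        g.ofConv.comp (φ : ↥C' →ₐ[k] A) = g'.ofConv.comp (φ : ↥C' →ₐ[k] A) := by
    intro R _ _ g g'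
    have h1 : Spec.mapMulEquiv g ≫ q = Spec.mapMulEquiv g' ≫ q ↔ Kills I (g⁻¹ * g') := by
      rw [← hI, map_mul, map_inv, MonObj.mul_comp, GrpObj.inv_comp, inv_mul_eq_one]
    rw [h1]
    constructor
    · intro h
      refine AlgHom.ext fun c => ?_
      have := hφinv c R g _ h
      rw [mul_inv_cancel_left] at this
      exact this.symm
    · intro h
      have h2 : toConv ((g⁻¹ * g').ofConv.comp (φ : ↥C' →ₐ[k] A)) = (1 : WithConv (↥C' →ₐ[k] R)) := by
        rw [GrothLib.Hopf.convMul_comp_bialgHom, ← h, ← GrothLib.Hopf.convMul_comp_bialgHom, inv_mul_cancel,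
          GrothLib.Hopf.convOne_comp_bialgHom, toConv_ofConv]
      refine kills_of_invariants I hN _ fun c hc => ?_
      have hker : J ≤ RingHom.ker (g⁻¹ * g').ofConv := by
        rw [show J = Ideal.span (s : Set A) from hs]
        refine Ideal.span_le.2 fun x hx => ?_
        obtain ⟨c', hc'⟩ : ∃ c' : ↥C', (c' : invariants k I) = ⟨f ⟨x, hx⟩, hf _⟩ :=
          ⟨⟨_, hsC (Finset.mem_image.2 ⟨⟨x, hx⟩, Finset.mem_univ _, rfl⟩)⟩, rfl⟩
        have h3 := congr($(congrArg WithConv.ofConv h2) c')
        rw [SetLike.mem_coe, RingHom.mem_ker, show x = f ⟨x, hx⟩ - algebraMap k A (Coalgebra.counit (f ⟨x, hx⟩)) from (hfs ⟨x, hx⟩).symm, map_sub, AlgHom.commutes]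
        rw [sub_eq_zero]
        have e1 : φ c' = f ⟨x, hx⟩ := congrArg Subtype.val hc'
        rw [← e1]
        refine Eq.trans h3 ?_
        show algebraMap k R (Coalgebra.counit c') = _
        rw [← CoalgHomClass.counit_comp_apply φ c']
      have h4 := hker (Ideal.subset_span ⟨c, hc, rfl⟩)
      rwa [RingHom.mem_ker, map_sub, AlgHom.commutes, sub_eq_zero] at h4
  -- the quotient
  let PC : Over S := (Spec (CommRingCat.of (↥C'))).asOver S
  let π : GA ⟶ PC := ((hopfSpec (CommRingCat.of k)).map (X := Opposite.op (CommHopfAlgCat.of k A))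
    (Y := Opposite.op (CommHopfAlgCat.of k ↥C')) (CommHopfAlgCat.ofHom φ).op).hom.hom
  haveI : IsMonHom π := ((hopfSpec (CommRingCat.of k)).map (X := Opposite.op (CommHopfAlgCat.of k A))
    (Y := Opposite.op (CommHopfAlgCat.of k ↥C')) (CommHopfAlgCat.ofHom φ).op).hom.isMonHom_hom
  have hπl : π.left = Spec.map (CommRingCat.ofHom ((φ : ↥C' →ₐ[k] A) : ↥C' →+* A)) := rfl
  haveI : Flat π.left := by
    show Flat (Spec.map (CommRingCat.ofHom ((φ : ↥C' →ₐ[k] A) : ↥C' →+* A)))
    rw [Flat.SpecMap_iff]
    exact RingHom.flat_algebraMap_iff.2 hff.toFlat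
  haveI := hff
  haveI : Surjective π.left := ⟨by
    rw [hπl]
    exact (RingHom.FaithfullyFlat.iff_flat_and_comap_surjective.1 (RingHom.faithfullyFlat_algebraMap_iff.mpr hff)).2⟩
  haveI : QuasiCompact π.left :=
    inferInstanceAs (QuasiCompact (Spec.map (CommRingCat.ofHom ((φ : ↥C' →ₐ[k] A) : ↥C' →+* A))))
  have hiff : ∀ (T : Over S) (x x' : T ⟶ GA), x ≫ q = x' ≫ q ↔ x ≫ π = x' ≫ π := by
    intro T x x'
    have key : ∀ (R : Type u) [CommRing R] [Algebra k R] (u : (Spec (CommRingCat.of R)).asOver S ⟶ T),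
        u ≫ x ≫ q = u ≫ x' ≫ q ↔ u ≫ x ≫ π = u ≫ x' ≫ π := by
      intro R _ _ u
      obtain ⟨g, hg⟩ := Spec.mapMulEquiv.surjective (u ≫ x)
      obtain ⟨g', hg'⟩ := Spec.mapMulEquiv.surjective (u ≫ x')
      rw [← Category.assoc, ← Category.assoc, ← hg, ← hg', hagree, ← Category.assoc u x π,
        ← Category.assoc u x' π, ← hg, ← hg']
      constructor
      · intro h
        refine Over.OverMorphism.ext ?_
        show Spec.map (CommRingCat.ofHom g.ofConv.toRingHom) ≫ π.left =
          Spec.map (CommRingCat.ofHom g'.ofConv.toRingHom) ≫ π.left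
        rw [hπl]
        refine (Spec.map_comp _ _).symm.trans ((congrArg Spec.map ?_).trans (Spec.map_comp _ _))
        exact congrArg (fun t : ↥C' →ₐ[k] R => CommRingCat.ofHom t.toRingHom) h
      · intro h
        have h' : Spec.map (CommRingCat.ofHom g.ofConv.toRingHom) ≫ π.left =
          Spec.map (CommRingCat.ofHom g'.ofConv.toRingHom) ≫ π.left := congrArg (·.left) h
        rw [hπl] at h'
        have h'' := Spec.map_injective ((Spec.map_comp _ _).trans (h'.trans (Spec.map_comp _ _).symm))
        exact AlgHom.ext fun c => congr($(h'').hom c)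
    exact ⟨fun h => hom_ext_affine fun R _ _ u => (key R u).1 (congrArg (u ≫ ·) h),
      fun h => hom_ext_affine fun R _ _ u => (key R u).2 (congrArg (u ≫ ·) h)⟩
  let v₀ : PC.left ⟶ Q.left := EffectiveEpi.desc π.left q.left fun {W} g₁ g₂ hg => by
    let T : Over S := Over.mk (g₁ ≫ (GA).hom)
    have h2 : g₂ ≫ (GA).hom = g₁ ≫ (GA).hom := by rw [← Over.w π, reassoc_of% hg]
    exact congrArg (fun t => t.left) ((hiff T (Over.homMk g₁ rfl) (Over.homMk g₂ h2)).2 (Over.OverMorphism.ext hg))
  have hv₀ : π.left ≫ v₀ = q.left := EffectiveEpi.fac _ _ _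
  let v : PC ⟶ Q := Over.homMk v₀ (by
    rw [← cancel_epi π.left, reassoc_of% hv₀, Over.w q]; exact (Over.w π).symm)
  have hv : π ≫ v = q := Over.OverMorphism.ext hv₀
  haveI : LocallyOfFiniteType PC.hom := by
    show LocallyOfFiniteType (Spec.map (CommRingCat.ofHom (algebraMap k ↥C')))
    rw [HasRingHomProperty.Spec_iff (P := @LocallyOfFiniteType)]
    exact RingHom.finiteType_algebraMap.2 inferInstance
  haveI : IsLocallyNoetherian PC.left := LocallyOfFiniteType.isLocallyNoetherian PC.hom
  haveI : LocallyOfFiniteType (GA).hom := by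
    show LocallyOfFiniteType (Spec.map (CommRingCat.ofHom (algebraMap k A)))
    rw [HasRingHomProperty.Spec_iff (P := @LocallyOfFiniteType)]
    exact RingHom.finiteType_algebraMap.2 inferInstance
  haveI : LocallyOfFiniteType π.left := by
    have : LocallyOfFiniteType (π.left ≫ PC.hom) := by rw [Over.w π]; infer_instance
    exact locallyOfFiniteType_of_comp π.left PC.hom
  haveI : LocallyOfFinitePresentation π.left := inferInstance
  have hepi : ∀ C : Over S, Epi (C ◁ π) := fun C => by
    obtain ⟨_, _, _⟩ := GrothLib.FlatFactor.cover_whiskerLeft π C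
    exact (Over.forget _).epi_of_epi_map (inferInstanceAs (Epi (C ◁ π).left))
  haveI : Epi (π ⊗ₘ π) := by
    rw [MonoidalCategory.tensorHom_def,
      show π ▷ GA = (β_ _ _).hom ≫ (GA ◁ π) ≫ (β_ _ _).inv by
        rw [← BraidedCategory.braiding_naturality_left_assoc, Iso.hom_inv_id, Category.comp_id]]
    have := hepi GA
    have := hepi PC
    infer_instance
  haveI : IsMonHom v := GrothLib.GrpSchField.isMonHom_of_mul v (by
    rw [← cancel_epi (π ⊗ₘ π), ← Category.assoc, ← IsMonHom.mul_hom, Category.assoc, hv, IsMonHom.mul_hom,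
      ← Category.assoc (π ⊗ₘ π), MonoidalCategory.tensorHom_comp_tensorHom, hv])
  have htriv : ∀ (T : Over S) (y : T ⟶ PC), y ≫ v = 1 → y = 1 := by
    intro T y hy
    let t₀ := pullback.fst y.left π.left
    let T' : Over S := Over.mk (t₀ ≫ T.hom)
    let t : T' ⟶ T := Over.homMk t₀ rfl
    let x : T' ⟶ GA := Over.homMk (pullback.snd y.left π.left) (by
      show _ = t₀ ≫ T.hom
      rw [← Over.w π, ← Over.w y, ← Category.assoc, ← Category.assoc, pullback.condition])
    have hx : x ≫ π = t ≫ y := Over.OverMorphism.ext pullback.condition.symm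
    have h1 : x ≫ q = (1 : T' ⟶ GA) ≫ q := by
      rw [← hv, ← Category.assoc, hx, Category.assoc, hy, MonObj.comp_one, hv, MonObj.one_comp]
    have h2 : t ≫ y = t ≫ 1 := by
      rw [← hx, (hiff T' x 1).1 h1, MonObj.one_comp, MonObj.comp_one]
    haveI : Flat t₀ := inferInstanceAs (Flat (pullback.fst y.left π.left))
    haveI : Surjective t₀ := inferInstanceAs (Surjective (pullback.fst y.left π.left))
    haveI : QuasiCompact t₀ := inferInstanceAs (QuasiCompact (pullback.fst y.left π.left))
    haveI : Epi t := (Over.forget _).epi_of_epi_map (inferInstanceAs (Epi t₀))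
    exact (cancel_epi t).1 h2
  haveI : Mono v := ⟨fun {T} y y' h => by
    have h1 := htriv T (y⁻¹ * y') (by rw [MonObj.mul_comp, GrpObj.inv_comp, h, inv_mul_cancel])
    exact inv_mul_eq_one.1 h1⟩
  haveI : QuasiCompact PC.hom :=
    inferInstanceAs (QuasiCompact (Spec.map (CommRingCat.ofHom (algebraMap k ↥C'))))
  haveI := GrothLib.MonoHom.isClosedImmersion_left v
  haveI : Surjective v.left := by
    have : Surjective (π.left ≫ v.left) := by
      rw [← Over.comp_left, hv]; infer_instance
    exact Surjective.of_comp π.left v.left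
  haveI : IsAffine PC.left := inferInstanceAs (IsAffine (Spec (CommRingCat.of ↥C')))
  exact GrothLib.Thickening.isAffine_of_thickening v.left

end Core

/-- A group scheme receiving a surjective homomorphism from an affine algebraic group over an
algebraically closed field is affine. -/
theorem isAffine_of_surjective_hom_algClosed [IsAlgClosed k] {G Q : Over (Spec (CommRingCat.of k))}
    [GrpObj G] [GrpObj Q] [IsAffine G.left] [LocallyOfFiniteType G.hom] [LocallyOfFiniteType Q.hom]
    (q : G ⟶ Q) [IsMonHom q] [Surjective q.left] : IsAffine Q.left := by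
  obtain ⟨A', ⟨e⟩⟩ := (essImage_hopfSpec (R := CommRingCat.of k) (G := Grp.mk G)).2 ‹_›
  obtain ⟨A, rfl⟩ : ∃ A, Opposite.op A = A' := ⟨A'.unop, rfl⟩
  let PA : Over (Spec (CommRingCat.of k)) := (Spec (CommRingCat.of (A : Type u))).asOver (Spec (CommRingCat.of k))
  let f : PA ≅ G := (Grp.forget _).mapIso e
  haveI : IsMonHom f.hom := e.hom.hom.isMonHom_hom
  haveI : Algebra.FiniteType k (A : Type u) := by
    have : LocallyOfFiniteType PA.hom := by
      rw [← Over.w f.hom]
      haveI : IsIso f.hom.left := inferInstanceAs (IsIso ((Over.forget _).map f.hom))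
      infer_instance
    exact RingHom.finiteType_algebraMap.1
      ((HasRingHomProperty.Spec_iff (P := @LocallyOfFiniteType)).1 this)
  -- the reduced subgroup
  let J : Ideal (A : Type u) := ⨅ g ∈ (⊤ : Subgroup (WithConv ((A : Type u) →ₐ[k] k))),
    RingHom.ker (ofConv g : (A : Type u) →ₐ[k] k)
  haveI hJ : J.IsHopfIdeal k := GrothLib.HopfAG.isHopfIdeal_iInf_ker ⊤
  have hmem : ∀ {a : (A : Type u)}, a ∈ J ↔ ∀ g : (A : Type u) →ₐ[k] k, g a = 0 := fun {a} => by
    simp only [J, Submodule.mem_iInf, RingHom.mem_ker]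
    exact ⟨fun h g => h (toConv g) trivial, fun h g _ => h _⟩
  haveI : _root_.IsReduced ((A : Type u) ⧸ J) := by
    refine (Ideal.isRadical_iff_quotient_reduced _).1 fun a ha => ?_
    obtain ⟨n, hn⟩ := ha
    refine hmem.2 fun g => ?_
    exact eq_zero_of_pow_eq_zero ((map_pow g a n).symm.trans (hmem.1 hn g))
  haveI : Algebra.FiniteType k ((A : Type u) ⧸ J) :=
    Algebra.FiniteType.of_surjective (Ideal.Quotient.mkₐ k J) Ideal.Quotient.mk_surjective
  let Pr : Over (Spec (CommRingCat.of k)) :=
    (Spec (CommRingCat.of ((A : Type u) ⧸ J))).asOver (Spec (CommRingCat.of k))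
  let ψ : (A : Type u) →ₐc[k] (A : Type u) ⧸ J := Bialgebra.Quotient.mkBialgHom J
  let r : Pr ⟶ PA := ((hopfSpec (CommRingCat.of k)).map (X := Opposite.op (CommHopfAlgCat.of k ((A : Type u) ⧸ J)))
    (Y := Opposite.op A) (CommHopfAlgCat.ofHom ψ).op).hom.hom
  haveI : IsMonHom r := ((hopfSpec (CommRingCat.of k)).map
    (X := Opposite.op (CommHopfAlgCat.of k ((A : Type u) ⧸ J)))
    (Y := Opposite.op A) (CommHopfAlgCat.ofHom ψ).op).hom.isMonHom_hom
  haveI : Surjective r.left := by
    refine ⟨fun x => ?_⟩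
    have hx : x ∈ Set.range (PrimeSpectrum.comap (Ideal.Quotient.mk J)) := by
      rw [range_comap_of_surjective _ _ Ideal.Quotient.mk_surjective, Ideal.mk_ker]
      intro a ha
      by_contra hax
      obtain ⟨g, hg⟩ := GrothLib.Hopf.PointLift.exists_point_ne_zero (k := k) (a := a) fun hnil => hax (by
        obtain ⟨n, hn⟩ := hnil
        exact x.2.mem_of_pow_mem n (hn ▸ zero_mem _))
      exact hg (hmem.1 ha g)
    obtain ⟨y, hy⟩ := hx
    exact ⟨y, hy⟩
  haveI : IsIso f.hom.left := inferInstanceAs (IsIso ((Over.forget _).map f.hom))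
  haveI : Surjective (r ≫ f.hom ≫ q).left := by
    rw [Over.comp_left, Over.comp_left]
    infer_instance
  exact isAffine_of_surjective_hom_spec (r ≫ f.hom ≫ q)

/-- A group scheme receiving a surjective homomorphism from an affine algebraic group is affine. -/
theorem isAffine_of_surjective_hom {G Q : Over (Spec (CommRingCat.of k))}
    [GrpObj G] [GrpObj Q] [IsAffine G.left] [LocallyOfFiniteType G.hom] [LocallyOfFiniteType Q.hom]
    (q : G ⟶ Q) [IsMonHom q] [Surjective q.left] : IsAffine Q.left := by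
  let j : Spec (CommRingCat.of (AlgebraicClosure k)) ⟶ Spec (CommRingCat.of k) :=
    Spec.map (CommRingCat.ofHom (algebraMap k (AlgebraicClosure k)))
  haveI : IsMonHom ((Over.pullback j).map q) := inferInstance
  haveI : LocallyOfFiniteType (Red.bc j G).hom :=
    inferInstanceAs (LocallyOfFiniteType (pullback.snd G.hom j))
  haveI : LocallyOfFiniteType (Red.bc j Q).hom :=
    inferInstanceAs (LocallyOfFiniteType (pullback.snd Q.hom j))
  haveI : IsAffineHom G.hom := inferInstance
  haveI : IsAffine (Red.bc j G).left :=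
    haveI : IsAffineHom (Red.bc j G).hom := inferInstanceAs (IsAffineHom (pullback.snd G.hom j))
    isAffine_of_isAffineHom (Red.bc j G).hom
  haveI : Surjective ((Over.pullback j).map q).left :=
    MorphismProperty.pullbackLift_fst_snd j (Over.w q).symm ‹Surjective q.left›
  have hK : IsAffine (Red.bc j Q).left := isAffine_of_surjective_hom_algClosed ((Over.pullback j).map q)
  have hKh : IsAffineHom (pullback.snd Q.hom j) := inferInstanceAs (IsAffineHom (Red.bc j Q).hom)
  haveI : Flat j := GrothLib.DiagGrp.flat_of_field _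
  haveI : Surjective j := ⟨fun x => ⟨IsLocalRing.closedPoint _, Subsingleton.elim _ _⟩⟩
  haveI : QuasiCompact j := inferInstanceAs (QuasiCompact (Spec.map _))
  haveI : IsAffineHom Q.hom := MorphismProperty.of_isPullback_of_descendsAlong (P := @IsAffineHom)
    (Q := GrothLib.EtSite.fpqcCov) (IsPullback.of_hasPullback Q.hom j).flip
    ⟨⟨‹Surjective j›, ‹Flat j›⟩, ‹QuasiCompact j›⟩ hKh
  exact isAffine_of_isAffineHom Q.hom

end GrothLib.Chevalley
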