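import Groth.Agent.Lib.Chevalley.Exists
import Groth.Agent.Lib.ShfQuot.CartesianQuot

/-!
The group structure on the quotient by a normal subgroup, over a field.
-/

universe u

open CategoryTheory CategoryTheory.Limits MonoidalCategory CartesianMonoidalCategory MonObj SemiCartesianMonoidalCategory
open AlgebraicGeometry

namespace GrothLib.Chevalley

variable {k : Type u} [Field k]

/-- Flat, surjective and locally of finite presentation. -/
def IsCover {A B : Over (Spec (CommRingCat.of k))} (p : A ⟶ B) : Prop :=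
  Flat p.left ∧ Surjective p.left ∧ LocallyOfFinitePresentation p.left

theorem IsCover.comp {A B C : Over (Spec (CommRingCat.of k))} {p : A ⟶ B} {q : B ⟶ C}
    (hp : IsCover p) (hq : IsCover q) : IsCover (p ≫ q) := by
  obtain ⟨_, _, _⟩ := hp
  obtain ⟨_, _, _⟩ := hq
  exact ⟨inferInstanceAs (Flat (p.left ≫ q.left)), inferInstanceAs (Surjective (p.left ≫ q.left)),
    inferInstanceAs (LocallyOfFinitePresentation (p.left ≫ q.left))⟩

theorem cover_of_isIso {A B : Over (Spec (CommRingCat.of k))} (e : A ⟶ B) [IsIso e] : IsCover e := by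
  haveI : IsIso e.left := inferInstanceAs (IsIso ((Over.forget _).map e))
  exact ⟨inferInstance, inferInstance, inferInstance⟩

theorem cover_id (A : Over (Spec (CommRingCat.of k))) : IsCover (𝟙 A) := cover_of_isIso _

theorem cover_tensor {A B A' B' : Over (Spec (CommRingCat.of k))} {p : A ⟶ B} {q : A' ⟶ B'}
    (hp : IsCover p) (hq : IsCover q) : IsCover (p ⊗ₘ q) := by
  obtain ⟨_, _, _⟩ := hp
  obtain ⟨_, _, _⟩ := hq
  rw [MonoidalCategory.tensorHom_def,
    show p ▷ A' = (β_ _ _).hom ≫ (A' ◁ p) ≫ (β_ _ _).inv by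
      rw [← BraidedCategory.braiding_naturality_left_assoc, Iso.hom_inv_id, Category.comp_id]]
  have h1 : IsCover (A' ◁ p) := GrothLib.FlatFactor.cover_whiskerLeft p A'
  have h2 : IsCover (B ◁ q) := GrothLib.FlatFactor.cover_whiskerLeft q B
  exact ((cover_of_isIso _).comp (h1.comp (cover_of_isIso _))).comp h2

theorem epi_of_cover {A B : Over (Spec (CommRingCat.of k))} (p : A ⟶ B) (hp : IsCover p) : Epi p := by
  obtain ⟨_, _, _⟩ := hp
  exact (Over.forget _).epi_of_epi_map (inferInstanceAs (Epi p.left))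

/-- The quotient by a normal subgroup is a group. -/
theorem exists_grpObj_quotient {G H Q : Over (Spec (CommRingCat.of k))} [GrpObj G] [GrpObj H]
    (u : H ⟶ G) [IsMonHom u] (hn : AlgGrp.IsNormalHom u) (π : G ⟶ Q) (hπ : IsCover π)
    (hker : ∀ {Y : Over (Spec (CommRingCat.of k))} (a b : Y ⟶ G), a ≫ π = b ≫ π ↔ ∃ h : Y ⟶ H, b = a * (h ≫ u)) :
    ∃ str : GrpObj Q, @IsMonHom _ _ _ G Q _ str.toMonObj π := by
  haveI := hπ.1
  haveI := hπ.2.1
  haveI := hπ.2.2
  haveI : Epi π := epi_of_cover π hπ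
  haveI := (cover_tensor hπ hπ).1
  haveI := (cover_tensor hπ hπ).2.1
  haveI := (cover_tensor hπ hπ).2.2
  haveI : Epi (π ⊗ₘ π) := epi_of_cover _ (cover_tensor hπ hπ)
  obtain ⟨m, hm⟩ := GrothLib.DiagGrp.exists_desc (π ⊗ₘ π) (μ[G] ≫ π) (fun W a b hab => by
    obtain ⟨h, hh⟩ := (hker (a ≫ fst G G) (b ≫ fst G G)).1
      (by simpa using congrArg (· ≫ fst _ _) hab)
    obtain ⟨k, hk⟩ := (hker (a ≫ snd G G) (b ≫ snd G G)).1
      (by simpa using congrArg (· ≫ snd _ _) hab)
    obtain ⟨h', hh'⟩ := hn W (a ≫ snd G G)⁻¹ h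
    rw [← Category.assoc, ← Category.assoc, hker]
    refine ⟨h' * k, ?_⟩
    rw [GrothLib.CartQuot.comp_μ, GrothLib.CartQuot.comp_μ, hh, hk, MonObj.mul_comp, ← hh']
    group)
  obtain ⟨n, hn'⟩ := GrothLib.DiagGrp.exists_desc π (GrpObj.inv ≫ π) (fun W a b hab => by
    obtain ⟨h, hh⟩ := (hker a b).1 hab
    obtain ⟨h', hh'⟩ := hn W a h⁻¹
    rw [← Category.assoc, ← Category.assoc, hker, ← Hom.inv_def, ← Hom.inv_def]
    refine ⟨h', ?_⟩
    rw [hh, ← hh', GrpObj.inv_comp]
    group)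
  have hel : ∀ {Y : Over (Spec (CommRingCat.of k))} (a b : Y ⟶ G), lift (a ≫ π) (b ≫ π) ≫ m = (a * b) ≫ π := fun a b => by
    rw [Hom.mul_def, Category.assoc, ← hm, lift_map_assoc]
  have h1 : ((η[G] ≫ π) ▷ Q) ≫ m = (λ_ Q).hom := by
    haveI : Epi (𝟙 (𝟙_ (Over (Spec (CommRingCat.of k)))) ⊗ₘ π) := epi_of_cover _ (cover_tensor (cover_id (𝟙_ (Over (Spec (CommRingCat.of k))))) hπ)
    rw [← cancel_epi (𝟙 (𝟙_ (Over (Spec (CommRingCat.of k)))) ⊗ₘ π),
      show (λ_ Q).hom = snd (𝟙_ (Over (Spec (CommRingCat.of k)))) Q from leftUnitor_hom Q, tensorHom_snd]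
    calc (𝟙 (𝟙_ (Over (Spec (CommRingCat.of k)))) ⊗ₘ π) ≫ ((η[G] ≫ π) ▷ Q) ≫ m
        = lift ((fst _ _ ≫ η[G]) ≫ π) (snd _ _ ≫ π) ≫ m := by
          rw [← Category.assoc]; congr 1
          apply CartesianMonoidalCategory.hom_ext <;> simp [show fst (𝟙_ (Over (Spec (CommRingCat.of k)))) G = toUnit _ from toUnit_unique _ _, leftUnitor_hom]
      _ = _ := by rw [hel, GrothLib.CartQuot.comp_η, _root_.one_mul]
  have h2 : (Q ◁ (η[G] ≫ π)) ≫ m = (ρ_ Q).hom := by
    haveI : Epi (π ⊗ₘ 𝟙 (𝟙_ (Over (Spec (CommRingCat.of k))))) := epi_of_cover _ (cover_tensor hπ (cover_id (𝟙_ (Over (Spec (CommRingCat.of k))))))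
    rw [← cancel_epi (π ⊗ₘ 𝟙 (𝟙_ (Over (Spec (CommRingCat.of k))))),
      show (ρ_ Q).hom = fst Q (𝟙_ (Over (Spec (CommRingCat.of k)))) from rightUnitor_hom Q, tensorHom_fst]
    calc (π ⊗ₘ 𝟙 (𝟙_ (Over (Spec (CommRingCat.of k))))) ≫ (Q ◁ (η[G] ≫ π)) ≫ m
        = lift (fst _ _ ≫ π) ((snd _ _ ≫ η[G]) ≫ π) ≫ m := by
          rw [← Category.assoc]; congr 1
          apply CartesianMonoidalCategory.hom_ext <;> simp [show snd G (𝟙_ (Over (Spec (CommRingCat.of k)))) = toUnit _ from toUnit_unique _ _, rightUnitor_hom]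
      _ = _ := by rw [hel, GrothLib.CartQuot.comp_η, _root_.mul_one]
  have h3 : (m ▷ Q) ≫ m = (α_ Q Q Q).hom ≫ (Q ◁ m) ≫ m := by
    haveI : Epi ((π ⊗ₘ π) ⊗ₘ π) := epi_of_cover _ (cover_tensor (cover_tensor hπ hπ) hπ)
    rw [← cancel_epi ((π ⊗ₘ π) ⊗ₘ π)]
    calc ((π ⊗ₘ π) ⊗ₘ π) ≫ (m ▷ Q) ≫ m
        = lift (lift ((fst _ _ ≫ fst G G) ≫ π) ((fst _ _ ≫ snd G G) ≫ π) ≫ m) (snd _ _ ≫ π) ≫ m := by
          rw [← Category.assoc]; congr 1
          apply CartesianMonoidalCategory.hom_ext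
          · simp only [Category.assoc, whiskerRight_fst, lift_fst, tensorHom_fst_assoc]
            rw [← Category.assoc]; congr 1; apply CartesianMonoidalCategory.hom_ext <;> simp
          · simp
      _ = ((fst _ _ ≫ fst G G) * (fst _ _ ≫ snd G G) * snd _ _) ≫ π := by rw [hel, hel]
      _ = ((fst _ _ ≫ fst G G) * ((fst _ _ ≫ snd G G) * snd _ _)) ≫ π := by rw [_root_.mul_assoc]
      _ = lift ((fst _ _ ≫ fst G G) ≫ π) (lift ((fst _ _ ≫ snd G G) ≫ π) (snd _ _ ≫ π) ≫ m) ≫ m := by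
          rw [hel, hel]
      _ = ((π ⊗ₘ π) ⊗ₘ π) ≫ (α_ Q Q Q).hom ≫ (Q ◁ m) ≫ m := by
          rw [← Category.assoc ((α_ Q Q Q).hom), ← Category.assoc]; congr 1
          apply CartesianMonoidalCategory.hom_ext
          · simp
          · simp only [Category.assoc, whiskerLeft_snd, lift_snd]
            simp only [← Category.assoc]; congr 1; apply CartesianMonoidalCategory.hom_ext <;> simp
  have h4 : lift n (𝟙 Q) ≫ m = toUnit _ ≫ η[G] ≫ π := by
    rw [← cancel_epi π, comp_lift_assoc, hn', Category.comp_id, ← Category.id_comp π, ← Category.assoc,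
      hel, Category.comp_id, ← GrpObj.inv_eq_inv.symm, inv_mul_cancel, comp_toUnit_assoc,
      ← Category.assoc, GrothLib.CartQuot.comp_η, Category.id_comp]
  have h5 : lift (𝟙 Q) n ≫ m = toUnit _ ≫ η[G] ≫ π := by
    rw [← cancel_epi π, comp_lift_assoc, hn', Category.comp_id, ← Category.id_comp π, ← Category.assoc,
      hel, Category.comp_id, GrpObj.inv_eq_inv, mul_inv_cancel, comp_toUnit_assoc,
      ← Category.assoc, GrothLib.CartQuot.comp_η, Category.id_comp]
  let str : GrpObj Q := { one := η[G] ≫ π, mul := m, inv := n, one_mul := h1, mul_one := h2,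
                          mul_assoc := h3, left_inv := h4, right_inv := h5 }
  exact ⟨str, @IsMonHom.mk _ _ _ G Q _ str.toMonObj π rfl hm.symm⟩

end GrothLib.Chevalley

namespace GrothLib.Chevalley

open CartesianMonoidalCategory in
/-- Affine groups have affine quotients by normal closed subgroups. -/
theorem exists_normal_quotient_affine {k : Type u} [Field k] {G N : Over (Spec (CommRingCat.of k))} [GrpObj G] [GrpObj N]
    [IsAffine G.left] [LocallyOfFiniteType G.hom] (i : N ⟶ G) [IsMonHom i] [IsClosedImmersion i.left]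
    (hN : AlgGrp.IsNormalHom i) :
    ∃ (Q : Over (Spec (CommRingCat.of k))) (_ : GrpObj Q) (q : G ⟶ Q), IsMonHom q ∧
      LocallyOfFiniteType Q.hom ∧ QuasiCompact Q.hom ∧ Flat q.left ∧ Surjective q.left ∧
      AlgGrp.IsKernel i q := by
  obtain ⟨n, Q, a, o, -, -, hlft, hqc, hfl, hs, sq⟩ := exists_affine_quotient i
  generalize a.orbitMap o = π at hfl hs sq
  haveI := hlft
  haveI : IsLocallyNoetherian Q.left := LocallyOfFiniteType.isLocallyNoetherian Q.hom
  haveI : LocallyOfFiniteType π.left := by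
    have : LocallyOfFiniteType (π.left ≫ Q.hom) := by rw [Over.w π]; infer_instance
    exact locallyOfFiniteType_of_comp π.left Q.hom
  have hπ : IsCover π := ⟨hfl, hs, inferInstance⟩
  have hker : ∀ {Y : Over (Spec (CommRingCat.of k))} (a b : Y ⟶ G),
      a ≫ π = b ≫ π ↔ ∃ h : Y ⟶ N, b = a * (h ≫ i) := by
    intro Y a b
    have hmul : ∀ z : Y ⟶ G ⊗ N, z ≫ (G ◁ i) ≫ μ[G] = (z ≫ fst G N) * ((z ≫ snd G N) ≫ i) := fun z => by
      conv_lhs => rw [← GrothLib.GrpSchField.lift_fst_snd_comp z, lift_whiskerLeft_assoc, ← Hom.mul_def]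
    constructor
    · intro h
      refine ⟨sq.lift a b h ≫ snd G N, ?_⟩
      have e := hmul (sq.lift a b h)
      rw [sq.lift_snd, sq.lift_fst] at e
      exact e
    · rintro ⟨h, rfl⟩
      have e := congrArg (lift a h ≫ ·) sq.w
      simp only [lift_fst_assoc, ← Category.assoc] at e
      rw [show (lift a h ≫ fst G N) = a from lift_fst _ _] at e
      rw [e, Category.assoc (lift a h), hmul, lift_fst, lift_snd]
  obtain ⟨str, hhom⟩ := exists_grpObj_quotient i hN π hπ hker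
  refine ⟨Q, str, π, hhom, hlft, hqc, hfl, hs, ?_⟩
  have hone : ∀ {T : Over (Spec (CommRingCat.of k))} (x : T ⟶ G), x ≫ π = 1 ↔ ∃ h : T ⟶ N, x = h ≫ i := by
    intro T x
    rw [eq_comm, ← MonObj.one_comp π, hker]
    simp only [_root_.one_mul]
  have w : i ≫ π = toUnit N ≫ η[Q] := by
    rw [← Hom.one_def, hone]
    exact ⟨𝟙 N, (Category.id_comp i).symm⟩
  haveI : Mono i.left := inferInstance
  haveI : Mono i := (Over.forget _).mono_of_mono_map ‹Mono i.left›
  have key : ∀ (T : Over (Spec (CommRingCat.of k))) (x : T ⟶ G) (t : T ⟶ 𝟙_ (Over (Spec (CommRingCat.of k)))),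
      x ≫ π = t ≫ η[Q] → ∃ h : T ⟶ N, x = h ≫ i := fun T x t h => (hone x).1 (by
    rw [h, Hom.one_def, toUnit_unique t (toUnit T)])
  refine IsPullback.of_isLimit' ⟨w⟩ (PullbackCone.isLimitAux _
    (fun s => (key _ s.fst s.snd s.condition).choose) ?_ (fun s => toUnit_unique _ _) ?_)
  · intro s
    exact (key _ s.fst s.snd s.condition).choose_spec.symm
  · intro s m hm
    refine (cancel_mono i).1 ?_
    exact (hm WalkingCospan.left).trans (key _ s.fst s.snd s.condition).choose_spec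

end GrothLib.Chevalley
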