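import Groth.Agent.Lib.Chevalley.Stab
import Groth.Agent.Lib.HopfAG.Dense
import Groth.Agent.Lib.Hopf.Translate
import Groth.Agent.Lib.Hopf.Sub

/-!
The functions invariant under a normal subgroup of a reduced affine algebraic group over an
algebraically closed field cut out the subgroup.
-/

universe u

open TensorProduct WithConv
open GrothLib.Comodule (cfOf cfOf_apply)

namespace GrothLib.Chevalley

variable {k : Type u} [Field k] {A : Type u} [CommRing A] [HopfAlgebra k A] (I : Ideal A)

section Defs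

variable {R : Type u} [CommRing R] [Algebra k R]

/-- The group of points with values in an algebra. -/
noncomputable scoped instance pointsInv : Inv (WithConv (A →ₐ[k] R)) := ⟨GrothLib.Hopf.pinv⟩

/-- The group of points with values in an algebra. -/
noncomputable scoped instance pointsGroup : Group (WithConv (A →ₐ[k] R)) where
  inv_mul_cancel := GrothLib.Hopf.pinv_mul

/-- A point lies in the closed subscheme of an ideal. -/
def Kills (w : WithConv (A →ₐ[k] R)) : Prop := ∀ a ∈ I, w.ofConv a = 0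

theorem Kills.comp {I : Ideal A} {w : WithConv (A →ₐ[k] R)} (h : Kills I w) {R' : Type u} [CommRing R']
    [Algebra k R'] (σ : R →ₐ[k] R') : Kills I (toConv (σ.comp w.ofConv)) := fun a ha => by
  simp [h a ha]

theorem Kills.inv {I : Ideal A} [I.IsHopfIdeal k] {w : WithConv (A →ₐ[k] R)} (h : Kills I w) : Kills I w⁻¹ :=
  fun _ ha => h _ (Ideal.IsHopfIdeal.antipode_mem (R := k) ha)

theorem exists_of_kills {w : WithConv (A →ₐ[k] R)} (h : Kills I w) :
    ∃ σ : A ⧸ I →ₐ[k] R, σ.comp (Ideal.Quotient.mkₐ k I) = w.ofConv :=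
  ⟨Ideal.Quotient.liftₐ I w.ofConv h, AlgHom.ext fun _ => rfl⟩

end Defs

variable (k) in
/-- The subgroup of an ideal is normal, on points. -/
def IsNormalPts : Prop :=
  ∀ (R : Type u) [CommRing R] [Algebra k R] (g w : WithConv (A →ₐ[k] R)), Kills I w → Kills I (g * w * g⁻¹)

variable (k) in
/-- The functions invariant under right translations by the subgroup. -/
def invariants : Subalgebra k A where
  carrier := {a | ∀ (R : Type u) [CommRing R] [Algebra k R] (g w : WithConv (A →ₐ[k] R)),
    Kills I w → (g * w).ofConv a = g.ofConv a}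
  mul_mem' ha hb R _ _ g w hw := by rw [map_mul, map_mul, ha R g w hw, hb R g w hw]
  add_mem' ha hb R _ _ g w hw := by rw [map_add, map_add, ha R g w hw, hb R g w hw]
  algebraMap_mem' r R _ _ g w hw := by rw [AlgHom.commutes, AlgHom.commutes]

theorem mem_invariants {a : A} : a ∈ invariants k I ↔
    ∀ (R : Type u) [CommRing R] [Algebra k R] (g w : WithConv (A →ₐ[k] R)),
      Kills I w → (g * w).ofConv a = g.ofConv a := Iff.rfl

theorem map_comul_eq {C D : Type u} [CommRing C] [Algebra k C] [CommRing D] [Algebra k D]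
    (f : A →ₐ[k] C) (h : A →ₐ[k] D) (a : A) :
    Algebra.TensorProduct.map f h (Coalgebra.comul (R := k) a) =
      (toConv (Algebra.TensorProduct.includeLeft.comp f : A →ₐ[k] C ⊗[k] D) *
        toConv (Algebra.TensorProduct.includeRight.comp h)).ofConv a := by
  rw [AlgHom.convMul_apply]
  simp only [ofConv_toConv]
  induction Coalgebra.comul (R := k) a using TensorProduct.induction_on with
  | zero => simp
  | tmul p q => simp
  | add p q hp hq => simp only [map_add, hp, hq]

theorem rTensor_comul_eq {C : Type u} [CommRing C] [Algebra k C] (f : A →ₐ[k] C) (a : A) :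
    f.toLinearMap.rTensor A (Coalgebra.comul (R := k) a) =
      (toConv (Algebra.TensorProduct.includeLeft.comp f : A →ₐ[k] C ⊗[k] A) *
        toConv Algebra.TensorProduct.includeRight).ofConv a := by
  have h := map_comul_eq f (AlgHom.id k A) a
  rw [AlgHom.comp_id] at h
  rw [← h]
  induction Coalgebra.comul (R := k) a using TensorProduct.induction_on with
  | zero => simp
  | tmul p q => simp
  | add p q hp hq => simp only [map_add, hp, hq]

theorem lTensor_comul_eq {C : Type u} [CommRing C] [Algebra k C] (f : A →ₐ[k] C) (a : A) :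
    f.toLinearMap.lTensor A (Coalgebra.comul (R := k) a) =
      (toConv (Algebra.TensorProduct.includeLeft : A →ₐ[k] A ⊗[k] C) *
        toConv (Algebra.TensorProduct.includeRight.comp f)).ofConv a := by
  have h := map_comul_eq (AlgHom.id k A) f a
  rw [AlgHom.comp_id] at h
  rw [← h]
  induction Coalgebra.comul (R := k) a using TensorProduct.induction_on with
  | zero => simp
  | tmul p q => simp
  | add p q hp hq => simp only [map_add, hp, hq]

variable {I} in
theorem rTensor_translate (hN : IsNormalPts k I) {a : A} (ha : a ∈ invariants k I) {C : Type u}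
    [CommRing C] [Algebra k C] (g n : WithConv (A →ₐ[k] C)) (hn : Kills I n) :
    (g * n).ofConv.toLinearMap.rTensor A (Coalgebra.comul (R := k) a) =
      g.ofConv.toLinearMap.rTensor A (Coalgebra.comul (R := k) a) := by
  rw [rTensor_comul_eq, rTensor_comul_eq, GrothLib.Hopf.comp_convMul]
  generalize hH : toConv (Algebra.TensorProduct.includeRight : A →ₐ[k] C ⊗[k] A) = H
  have hn' := hn.comp (Algebra.TensorProduct.includeLeft : C →ₐ[k] C ⊗[k] A)
  generalize toConv ((Algebra.TensorProduct.includeLeft : C →ₐ[k] C ⊗[k] A).comp n.ofConv) = N at hn'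
  generalize toConv ((Algebra.TensorProduct.includeLeft : C →ₐ[k] C ⊗[k] A).comp g.ofConv) = G
  have hK : Kills I (H⁻¹ * N * H) := by
    have := hN _ H⁻¹ N hn'
    rwa [inv_inv] at this
  rw [← ha _ (G * H) _ hK, mul_assoc G H, mul_assoc H⁻¹ N H, mul_inv_cancel_left, mul_assoc G N H]

variable {I} in
theorem lTensor_translate {a : A} (ha : a ∈ invariants k I) {C : Type u}
    [CommRing C] [Algebra k C] (g n : WithConv (A →ₐ[k] C)) (hn : Kills I n) :
    (g * n).ofConv.toLinearMap.lTensor A (Coalgebra.comul (R := k) a) =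
      g.ofConv.toLinearMap.lTensor A (Coalgebra.comul (R := k) a) := by
  rw [lTensor_comul_eq, lTensor_comul_eq, GrothLib.Hopf.comp_convMul, ← mul_assoc]
  exact ha _ _ _ (hn.comp _)

/-- The universal point. -/
noncomputable def gU : WithConv (A →ₐ[k] A ⊗[k] (A ⧸ I)) := toConv Algebra.TensorProduct.includeLeft

/-- The universal point of the subgroup. -/
noncomputable def nU : WithConv (A →ₐ[k] A ⊗[k] (A ⧸ I)) :=
  toConv (Algebra.TensorProduct.includeRight.comp (Ideal.Quotient.mkₐ k I))

theorem kills_nU : Kills I (nU (k := k) I) := fun a ha => by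
  simp [nU, Ideal.Quotient.eq_zero_iff_mem.2 ha]

/-- The difference of the right translation and the identity. -/
noncomputable def delta : A →ₗ[k] A ⊗[k] (A ⧸ I) :=
  (gU (k := k) I * nU I).ofConv.toLinearMap - (gU (k := k) I).ofConv.toLinearMap

theorem mem_invariants_iff {a : A} : a ∈ invariants k I ↔ delta (k := k) I a = 0 := by
  rw [delta, LinearMap.sub_apply, sub_eq_zero]
  refine ⟨fun h => h _ (gU I) (nU I) (kills_nU I), fun h R _ _ g w hw => ?_⟩
  obtain ⟨σ, hσ⟩ := exists_of_kills I hw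
  let m : A ⊗[k] (A ⧸ I) →ₐ[k] R :=
    Algebra.TensorProduct.lift g.ofConv σ fun _ _ => mul_comm _ _
  have e1 : toConv (m.comp (gU (k := k) I).ofConv) = g := WithConv.ofConv_injective (AlgHom.ext fun x => by simp [m, gU])
  have e2 : toConv (m.comp (nU (k := k) I).ofConv) = w := WithConv.ofConv_injective (AlgHom.ext fun x => by
    simp [m, nU, ← hσ])
  have e := congrArg m h
  have e3 := GrothLib.Hopf.comp_convMul m (gU (k := k) I) (nU I)
  rw [e1, e2] at e3
  rw [← e3]
  refine e.trans ?_
  exact congr($(congrArg WithConv.ofConv e1) a)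

theorem invariants_eq_ker : (invariants k I).toSubmodule = LinearMap.ker (delta (k := k) I) :=
  Submodule.ext fun _ => mem_invariants_iff I

variable {I} in
/-- The invariant functions of a normal subgroup form a sub-Hopf algebra. -/
theorem isHopfSubalgebra_invariants [I.IsHopfIdeal k] (hN : IsNormalPts k I) :
    SGA3.IsHopfSubalgebra k A (invariants k I) := by
  refine ⟨fun a ha => ?_, fun a ha R _ _ g w hw => ?_⟩
  · have hex := (LinearMap.exact_subtype_ker_map (delta (k := k) I))
    rw [← invariants_eq_ker] at hex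
    have h1 : (delta (k := k) I).rTensor A (Coalgebra.comul (R := k) a) = 0 := by
      rw [delta, LinearMap.rTensor_sub]
      exact (LinearMap.sub_apply _ _ _).trans
        (sub_eq_zero.2 (rTensor_translate hN ha (gU I) (nU I) (kills_nU I)))
    obtain ⟨y, hy⟩ := (Module.Flat.rTensor_exact A hex _).1 h1
    have h2 : (delta (k := k) I).lTensor A (Coalgebra.comul (R := k) a) = 0 := by
      rw [delta, LinearMap.lTensor_sub]
      exact (LinearMap.sub_apply _ _ _).trans
        (sub_eq_zero.2 (lTensor_translate ha (gU I) (nU I) (kills_nU I)))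
    have h3 : (delta (k := k) I).lTensor (invariants k I).toSubmodule y = 0 := by
      have hinj : Function.Injective
          ((invariants k I).toSubmodule.subtype.rTensor (A ⊗[k] (A ⧸ I))) :=
        Module.Flat.rTensor_preserves_injective_linearMap _ (Submodule.injective_subtype _)
      apply hinj
      have e : ∀ y : (invariants k I).toSubmodule ⊗[k] A,
          (invariants k I).toSubmodule.subtype.rTensor (A ⊗[k] (A ⧸ I))
              ((delta (k := k) I).lTensor (invariants k I).toSubmodule y) =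
            (delta (k := k) I).lTensor A ((invariants k I).toSubmodule.subtype.rTensor A y) := fun y => by
        induction y using TensorProduct.induction_on with
        | zero => simp
        | tmul p q => simp
        | add p q hp hq => simp only [map_add, hp, hq]
      rw [map_zero, e, hy, h2]
    obtain ⟨z, rfl⟩ := (Module.Flat.lTensor_exact (invariants k I).toSubmodule hex _).1 h3
    refine ⟨z, ?_⟩
    rw [← hy]
    clear hy h3
    induction z using TensorProduct.induction_on with
    | zero => simp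
    | tmul p q => rfl
    | add p q hp hq => simp only [map_add, hp, hq]
  · have h : Kills I (g * w⁻¹ * g⁻¹) := hN R g _ hw.inv
    change (g * w)⁻¹.ofConv a = g⁻¹.ofConv a
    rw [← ha R g⁻¹ _ h, mul_inv_rev]
    congr 2
    rw [mul_assoc g, inv_mul_cancel_left]

section Rep

variable {V : Type u} [AddCommGroup V] [Module k V] [HopfRep.Comod k A V] {R : Type u} [CommRing R] [Algebra k R]

local notation "ρ" => (HopfRep.Comod.coact (k := k) (A := A))

/-- Evaluation of a functional. -/
noncomputable def ev (φ : Module.Dual k V) : R ⊗[k] V →ₗ[R] R :=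
  LinearMap.liftBaseChange R ((Algebra.linearMap k R) ∘ₗ φ)

theorem ev_tmul (φ : Module.Dual k V) (r : R) (x : V) : ev φ (r ⊗ₜ[k] x) = r * algebraMap k R (φ x) := by
  simp [ev]

theorem ev_G (φ : Module.Dual k V) (g : A →ₐ[k] R) (v : V) :
    ev φ (PointAct.G g ((1 : R) ⊗ₜ[k] v)) = g (cfOf (inferInstance : HopfRep.Comod k A V) φ v) := by
  rw [PointAct.G_tmul, one_smul, cfOf_apply]
  induction ρ v using TensorProduct.induction_on with
  | zero => simp
  | tmul p q => simp [ev_tmul, Algebra.smul_def, mul_comm]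
  | add x y hx hy => simp only [map_add, hx, hy]

theorem G_naturality {R' : Type u} [CommRing R'] [Algebra k R'] (σ : R →ₐ[k] R') (g : A →ₐ[k] R) (v : V) :
    PointAct.G (σ.comp g) ((1 : R') ⊗ₜ[k] v) =
      σ.toLinearMap.rTensor V (PointAct.G g ((1 : R) ⊗ₜ[k] v)) := by
  rw [PointAct.G_tmul, PointAct.G_tmul, one_smul, one_smul]
  induction ρ v using TensorProduct.induction_on with
  | zero => simp
  | tmul p q => simp
  | add x y hx hy => simp only [map_add, hx, hy]

/-- An eigenvector of the subgroup. -/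
def IsEig (x : V) (b : A ⧸ I) : Prop :=
  PointAct.G (Ideal.Quotient.mkₐ k I) ((1 : A ⧸ I) ⊗ₜ[k] x) = b • ((1 : A ⧸ I) ⊗ₜ[k] x)

variable {I}

theorem IsEig.apply {x : V} {b : A ⧸ I} (h : IsEig (k := k) I x b) (σ : A ⧸ I →ₐ[k] R) :
    PointAct.G (σ.comp (Ideal.Quotient.mkₐ k I)) ((1 : R) ⊗ₜ[k] x) = σ b • ((1 : R) ⊗ₜ[k] x) := by
  rw [G_naturality, h, TensorProduct.smul_tmul', smul_eq_mul, mul_one, LinearMap.rTensor_tmul,
    TensorProduct.smul_tmul', smul_eq_mul, mul_one]
  rfl

theorem IsEig.isGroupLike [I.IsHopfIdeal k] {x : V} {b : A ⧸ I} (h : IsEig (k := k) I x b) (hx : x ≠ 0) :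
    IsGroupLikeElem k b := by
  obtain ⟨ξ, hξ⟩ : ∃ ξ : Module.Dual k V, ξ x = 1 := by
    obtain ⟨f, hf, -⟩ := Submodule.exists_le_ker_of_notMem
      (show x ∉ (⊥ : Submodule k V) by simpa using hx)
    exact ⟨(f x)⁻¹ • f, by simp [inv_mul_cancel₀ hf]⟩
  constructor
  · have e1 : (Bialgebra.counitAlgHom k (A ⧸ I)).comp (Ideal.Quotient.mkₐ k I) =
        (1 : WithConv (A →ₐ[k] k)).ofConv := AlgHom.ext fun a => rfl
    have e := congrArg (ev ξ) (h.apply (Bialgebra.counitAlgHom k (A ⧸ I)))
    rw [e1, PointAct.G_one, LinearMap.id_apply, map_smul, ev_tmul] at e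
    simpa [hξ] using e.symm
  · let L : A →ₐ[k] (A ⧸ I) ⊗[k] (A ⧸ I) := Algebra.TensorProduct.includeLeft.comp (Ideal.Quotient.mkₐ k I)
    let R' : A →ₐ[k] (A ⧸ I) ⊗[k] (A ⧸ I) := Algebra.TensorProduct.includeRight.comp (Ideal.Quotient.mkₐ k I)
    have e1 : (Bialgebra.comulAlgHom k (A ⧸ I)).comp (Ideal.Quotient.mkₐ k I) = (toConv L * toConv R').ofConv :=
      AlgHom.ext fun a => by rw [← map_comul_eq]; rfl
    have e := congrArg (ev ξ) (h.apply (Bialgebra.comulAlgHom k (A ⧸ I)))
    rw [e1, PointAct.G_mul, LinearMap.comp_apply, h.apply, map_smul, h.apply, map_smul, map_smul,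
      map_smul, ev_tmul] at e
    simpa [hξ, ← Algebra.TensorProduct.one_def] using e.symm

variable [IsAlgClosed k] [Algebra.FiniteType k A] [IsReduced A] [I.IsHopfIdeal k]

/-- An invariant form of a character on a stable subspace containing the line. -/
theorem exists_equivariant (hN : IsNormalPts k I) (v : V) (hv : v ≠ 0) (b₀ : A ⧸ I)
    (hb₀ : IsEig (k := k) I v b₀) :
    ∃ (φ : Module.Dual k V) (E : Submodule k V), φ v = 1 ∧ v ∈ E ∧
      HopfRep.IsSubcomod (k := k) (A := A) E ∧
      ∀ x ∈ E, ∀ (R : Type u) [CommRing R] [Algebra k R] (w : WithConv (A →ₐ[k] R)), Kills I w →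
        ev φ (PointAct.G w.ofConv ((1 : R) ⊗ₜ[k] x)) =
          ev φ (PointAct.G w.ofConv ((1 : R) ⊗ₜ[k] v)) * algebraMap k R (φ x) := by
  classical
  let S : Submodule k V := Submodule.span k {x | ∃ b, IsEig (k := k) I x b ∧ b ≠ b₀}
  have hvS : v ∉ S := fun hS => by
    obtain ⟨ξ, hξ⟩ : ∃ ξ : Module.Dual k V, ξ v = 1 := by
      obtain ⟨f, hf, -⟩ := Submodule.exists_le_ker_of_notMem
        (show v ∉ (⊥ : Submodule k V) by simpa using hv)
      exact ⟨(f v)⁻¹ • f, by simp [inv_mul_cancel₀ hf]⟩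
    let Λ : V →ₗ[k] A ⧸ I := ((ev ξ) ∘ₗ PointAct.G (Ideal.Quotient.mkₐ k I)).restrictScalars k ∘ₗ
      TensorProduct.mk k (A ⧸ I) V 1
    have hΛ : ∀ x b, IsEig (k := k) I x b → Λ x = ξ x • b := fun x b h => by
      change ev ξ (PointAct.G _ ((1 : A ⧸ I) ⊗ₜ[k] x)) = _
      rw [h, map_smul, ev_tmul, one_mul, smul_eq_mul, Algebra.smul_def, mul_comm]
    have hmem : b₀ ∈ Submodule.span k ({b | IsGroupLikeElem k b} \ {b₀}) := by
      have h1 : Λ v = b₀ := by rw [hΛ v b₀ hb₀, hξ, one_smul]
      suffices Λ v ∈ Submodule.span k ({b | IsGroupLikeElem k b} \ {b₀}) by rwa [h1] at this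
      have : S ≤ (Submodule.span k ({b | IsGroupLikeElem k b} \ {b₀})).comap Λ :=
        Submodule.span_le.2 fun x ⟨b, hb, hne⟩ => by
          rw [SetLike.mem_coe, Submodule.mem_comap, hΛ x b hb]
          by_cases hx : x = 0
          · simp [hx]
          · exact Submodule.smul_mem _ _ (Submodule.subset_span ⟨hb.isGroupLike hx, hne⟩)
      exact this hS
    exact (linearIndepOn_isGroupLikeElem (R := k) (A := A ⧸ I)).notMem_span
      (hb₀.isGroupLike hv) (by simpa using hmem)
  obtain ⟨f, hf, hfS⟩ := Submodule.exists_le_ker_of_notMem hvS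
  let φ : Module.Dual k V := (f v)⁻¹ • f
  let E : Submodule k V := Submodule.span k {x | ∃ b, IsEig (k := k) I x b}
  refine ⟨φ, E, by simp [φ, inv_mul_cancel₀ hf], Submodule.subset_span ⟨b₀, hb₀⟩, ?_, ?_⟩
  · refine (GrothLib.Dense.isSubcomod_iff (S := Set.univ)
      (fun a ha => GrothLib.Dense.eq_zero_of_forall_point a fun g => ha g trivial) E).2 fun γ _ => ?_
    rw [Submodule.map_le_iff_le_comap]
    refine Submodule.span_le.2 fun x ⟨b, hb⟩ => ?_
    let gB : WithConv (A →ₐ[k] A ⧸ I) := toConv ((Algebra.ofId k (A ⧸ I)).comp γ)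
    let w : WithConv (A →ₐ[k] A ⧸ I) := toConv (Ideal.Quotient.mkₐ k I)
    have hw : Kills I w := fun a ha => Ideal.Quotient.eq_zero_iff_mem.2 ha
    have hw' : Kills I (gB⁻¹ * w * gB) := by
      have := hN _ gB⁻¹ w hw
      rwa [inv_inv] at this
    obtain ⟨σ, hσ⟩ := exists_of_kills I hw'
    have hact : PointAct.G gB.ofConv ((1 : A ⧸ I) ⊗ₜ[k] x) = (1 : A ⧸ I) ⊗ₜ[k] HopfRep.Comod.act k A V γ x := by
      rw [PointAct.G_tmul, one_smul]
      show _ = (1 : A ⧸ I) ⊗ₜ[k] TensorProduct.rid k V (γ.toLinearMap.lTensor V (ρ x))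
      induction ρ x using TensorProduct.induction_on with
      | zero => simp
      | tmul p q => simp [gB, Algebra.algebraMap_eq_smul_one, TensorProduct.smul_tmul]
      | add x y hx hy => simp only [map_add, TensorProduct.tmul_add, hx, hy]
    refine Submodule.subset_span ⟨σ b, ?_⟩
    show PointAct.G w.ofConv _ = _
    rw [← hact, ← LinearMap.comp_apply, ← PointAct.G_mul, toConv_ofConv, toConv_ofConv,
      show w * gB = gB * (gB⁻¹ * w * gB) by rw [mul_assoc gB⁻¹, mul_inv_cancel_left],
      ← toConv_ofConv gB, ← toConv_ofConv ((toConv gB.ofConv)⁻¹ * w * toConv gB.ofConv),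
      PointAct.G_mul, LinearMap.comp_apply, toConv_ofConv gB, ← hσ, hb.apply, map_smul]
  · intro x hx R _ _ w hw
    obtain ⟨σ, hσ⟩ := exists_of_kills I hw
    have hχ : ev φ (PointAct.G w.ofConv ((1 : R) ⊗ₜ[k] v)) = σ b₀ := by
      rw [← hσ, hb₀.apply, map_smul, ev_tmul]
      simp [φ, inv_mul_cancel₀ hf]
    rw [hχ]
    induction hx using Submodule.span_induction with
    | mem y hy =>
      obtain ⟨b, hb⟩ := hy
      rw [← hσ, hb.apply, map_smul, ev_tmul, one_mul, smul_eq_mul]
      by_cases hne : b = b₀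
      · rw [hne]
      · have : φ y = 0 := by
          have := hfS (Submodule.subset_span ⟨b, hb, hne⟩ : y ∈ S)
          simp [φ, LinearMap.mem_ker.1 this]
        simp [this]
    | zero => simp
    | add y z _ _ hy hz => simp only [TensorProduct.tmul_add, map_add, hy, hz, mul_add]
    | smul c y _ hy =>
      rw [TensorProduct.tmul_smul, ← algebraMap_smul R c, map_smul, map_smul, hy, map_smul, smul_eq_mul,
        smul_eq_mul, map_mul]
      ring

end Rep

/-- The invariant functions of a normal subgroup of a reduced group over an algebraically closed field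
cut out the subgroup. -/
theorem kills_of_invariants [IsAlgClosed k] [Algebra.FiniteType k A] [IsReduced A] [I.IsHopfIdeal k]
    (hN : IsNormalPts k I) {R : Type u} [CommRing R] [Algebra k R] (g : WithConv (A →ₐ[k] R))
    (hg : ∀ c ∈ invariants k I, g.ofConv c = algebraMap k R (Coalgebra.counit c)) : Kills I g := by
  obtain ⟨V, _, _, _, _, v, hv, hrep⟩ := GrothLib.LineStab.exists_line (k := k) I
  have hline : ∀ (R : Type u) [CommRing R] [Algebra k R] (w : WithConv (A →ₐ[k] R)), Kills I w →
      ∃ r : R, PointAct.G w.ofConv ((1 : R) ⊗ₜ[k] v) = r • ((1 : R) ⊗ₜ[k] v) := fun R _ _ w hw =>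
    (stabilizesLine_iff v w.ofConv).1 ((hrep R w.ofConv).1 hw)
  obtain ⟨b₀, hb₀⟩ := hline (A ⧸ I) (toConv (Ideal.Quotient.mkₐ k I))
    fun a ha => Ideal.Quotient.eq_zero_iff_mem.2 ha
  obtain ⟨φ, E, hφv, hvE, hE, heq⟩ := exists_equivariant hN v hv b₀ hb₀
  let cV : HopfRep.Comod k A V := inferInstance
  let F : Module.Dual k V → A := fun ψ =>
    cfOf cV ψ v * HopfAlgebra.antipodeAlgHom k A (cfOf cV φ v)
  have hF : ∀ (R : Type u) [CommRing R] [Algebra k R] (h : WithConv (A →ₐ[k] R)) (ψ : Module.Dual k V),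
      h.ofConv (F ψ) = ev ψ (PointAct.G h.ofConv ((1 : R) ⊗ₜ[k] v)) *
        ev φ (PointAct.G h⁻¹.ofConv ((1 : R) ⊗ₜ[k] v)) := fun R _ _ h ψ => by
    rw [map_mul, ev_G, ev_G]
    rfl
  have hFinv : ∀ ψ, F ψ ∈ invariants k I := by
    intro ψ R _ _ h w hw
    rw [hF, hF, mul_inv_rev]
    obtain ⟨r, hr⟩ := hline R w hw
    have hr' : ev φ (PointAct.G w.ofConv ((1 : R) ⊗ₜ[k] v)) = r := by
      rw [hr, map_smul, ev_tmul, hφv]; simp
    have e1 : PointAct.G (h * w).ofConv ((1 : R) ⊗ₜ[k] v) = r • PointAct.G h.ofConv ((1 : R) ⊗ₜ[k] v) := by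
      rw [← toConv_ofConv h, ← toConv_ofConv w, PointAct.G_mul, LinearMap.comp_apply, hr, map_smul,
        toConv_ofConv h]
    have hpres : ∀ (u : WithConv (A →ₐ[k] R)), Kills I u → ∀ y ∈ E.baseChange R,
        ev φ (PointAct.G u.ofConv y) = ev φ (PointAct.G u.ofConv ((1 : R) ⊗ₜ[k] v)) * ev φ y := by
      intro u hu y hy
      rw [Submodule.baseChange_eq_span] at hy
      induction hy using Submodule.span_induction with
      | mem z hz =>
        obtain ⟨x, hx, rfl⟩ := hz
        simp only [TensorProduct.mk_apply]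
        rw [heq x hx R u hu, ev_tmul, one_mul]
      | zero => simp
      | add y z _ _ hy hz => simp only [map_add, hy, hz, mul_add]
      | smul c y _ hy => simp only [map_smul, hy, smul_eq_mul]; ring
    have hmem : PointAct.G h⁻¹.ofConv ((1 : R) ⊗ₜ[k] v) ∈ E.baseChange R := by
      refine (PointAct.mem_baseChange_iff E h⁻¹.ofConv).2 (fun x hx => ?_) _ ?_
      · obtain ⟨z, hz⟩ := hE x hx
        refine ⟨(h⁻¹.ofConv.toLinearMap.lTensor E) z, ?_⟩
        rw [← hz, ← LinearMap.comp_apply, ← LinearMap.comp_apply, LinearMap.rTensor_comp_lTensor,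
          LinearMap.lTensor_comp_rTensor]
      · exact Submodule.tmul_mem_baseChange_of_mem 1 hvE
    have e2 : ev φ (PointAct.G (w⁻¹ * h⁻¹).ofConv ((1 : R) ⊗ₜ[k] v)) =
        ev φ (PointAct.G w⁻¹.ofConv ((1 : R) ⊗ₜ[k] v)) * ev φ (PointAct.G h⁻¹.ofConv ((1 : R) ⊗ₜ[k] v)) := by
      rw [← toConv_ofConv w⁻¹, ← toConv_ofConv h⁻¹, PointAct.G_mul, LinearMap.comp_apply,
        toConv_ofConv, toConv_ofConv, hpres _ hw.inv _ hmem]
    have e3 : ev φ (PointAct.G w⁻¹.ofConv ((1 : R) ⊗ₜ[k] v)) * r = 1 := by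
      have e : PointAct.G (w⁻¹ * w).ofConv ((1 : R) ⊗ₜ[k] v) = r • PointAct.G w⁻¹.ofConv ((1 : R) ⊗ₜ[k] v) := by
        rw [← toConv_ofConv w⁻¹, ← toConv_ofConv w, PointAct.G_mul, LinearMap.comp_apply, hr, map_smul]
      have e' := congrArg (ev φ) e
      rw [inv_mul_cancel, PointAct.G_one, LinearMap.id_apply, map_smul, ev_tmul, hφv, map_one, mul_one,
        smul_eq_mul] at e'
      rw [mul_comm]
      exact e'.symm
    rw [e1, e2, map_smul, smul_eq_mul]
    linear_combination (ev ψ (PointAct.G h.ofConv ((1 : R) ⊗ₜ[k] v)) *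
      ev φ (PointAct.G h⁻¹.ofConv ((1 : R) ⊗ₜ[k] v))) * e3
  set r := ev φ (PointAct.G g⁻¹.ofConv ((1 : R) ⊗ₜ[k] v))
  have key : ∀ ψ : Module.Dual k V,
      ev ψ (PointAct.G g.ofConv ((1 : R) ⊗ₜ[k] v)) * r = algebraMap k R (ψ v) := fun ψ => by
    have h1 : g.ofConv (F ψ) = (1 : WithConv (A →ₐ[k] R)).ofConv (F ψ) := hg _ (hFinv ψ)
    rw [hF, hF, inv_one, PointAct.G_one, LinearMap.id_apply, ev_tmul, ev_tmul, hφv] at h1
    simpa using h1
  intro a ha
  refine (hrep R g.ofConv).2 ((stabilizesLine_iff v g.ofConv).2 ⟨ev φ (PointAct.G g.ofConv ((1 : R) ⊗ₜ[k] v)), ?_⟩) a ha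
  let b := Module.Free.chooseBasis k V
  rw [(Algebra.TensorProduct.basis R b).ext_elem_iff]
  intro i
  rw [map_smul, Finsupp.smul_apply, repr_G, Algebra.TensorProduct.basis_repr_tmul, coordFn]
  rw [← ev_G]
  have h1 := key (b.coord i)
  have h2 := key φ
  rw [hφv, map_one] at h2
  simp only [Module.Basis.coord_apply] at h1 ⊢
  rw [one_smul, Finsupp.mapRange_apply, smul_eq_mul]
  linear_combination (ev (b.coord i) (PointAct.G g.ofConv ((1 : R) ⊗ₜ[k] v))) * (-h2) +
    (ev φ (PointAct.G g.ofConv ((1 : R) ⊗ₜ[k] v))) * h1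

end GrothLib.Chevalley
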