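import Groth.Agent.Lib.Ample.ProjMap

/-!
The morphism to projective space given by functions generating the unit ideal, on points.
-/

universe u

open AlgebraicGeometry CategoryTheory MvPolynomial TopologicalSpace
open GrothLib.Ample
open GrothLib.Ample.ProjMap

set_option backward.isDefEq.respectTransparency false

noncomputable section

namespace GrothLib.Chevalley

/-- Elements generating the unit ideal with vanishing cross differences are proportional. -/
theorem exists_ratio_of_cross {R ι : Type*} [CommRing R] [Fintype ι] (a b : ι → R)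
    (ha : Ideal.span (Set.range a) = ⊤) (h : ∀ i j, b j * a i = b i * a j) :
    ∃ r : R, ∀ j, b j = r * a j := by
  obtain ⟨c, hc⟩ := (Ideal.mem_span_range_iff_exists_fun (x := (1 : R))).1 (ha ▸ Submodule.mem_top)
  refine ⟨∑ i, c i * b i, fun j => ?_⟩
  calc b j = (∑ i, c i * a i) * b j := by rw [hc, one_mul]
    _ = _ := by
      rw [Finset.sum_mul, Finset.sum_mul]
      refine Finset.sum_congr rfl fun i _ => ?_
      rw [mul_assoc, mul_assoc, mul_comm (a i) (b j), h i j]

variable {k A : Type u} [CommRing k] [CommRing A] [Algebra k A] {n : ℕ}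

variable (k) in
/-- The structure morphism. -/
abbrev strHom (A : Type u) [CommRing A] [Algebra k A] :
    Spec (CommRingCat.of A) ⟶ Spec (CommRingCat.of k) :=
  Spec.map (CommRingCat.ofHom (algebraMap k A))

/-- A function as a global section. -/
abbrev gsec (A : Type u) [CommRing A] : A →+* Γ(Spec (CommRingCat.of A), ⊤) :=
  (Scheme.ΓSpecIso (CommRingCat.of A)).inv.hom

variable (c : Fin (n + 1) → A) (hc : Ideal.span (Set.range c) = ⊤)

/-- The opens. -/
def coordU (i : Fin (n + 1)) : (Spec (CommRingCat.of A)).Opens :=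
  (Spec (CommRingCat.of A)).basicOpen (gsec A (c i))

theorem isUnit_coord (i : Fin (n + 1)) :
    IsUnit (res (le_top : coordU c i ≤ ⊤) (gsec A (c i))) :=
  RingedSpace.isUnit_res_basicOpen _ (gsec A (c i))

/-- The ratios. -/
def coordφ (i j : Fin (n + 1)) : Γ(Spec (CommRingCat.of A), coordU c i) :=
  res (le_top : coordU c i ≤ ⊤) (gsec A (c j)) * Ring.inverse (res le_top (gsec A (c i)))

theorem coordφ_spec (i j : Fin (n + 1)) :
    coordφ c i j * res (le_top : coordU c i ≤ ⊤) (gsec A (c i)) = res le_top (gsec A (c j)) := by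
  rw [coordφ, mul_assoc, Ring.inverse_mul_cancel _ (isUnit_coord c i), mul_one]

theorem res_coordφ (i j : Fin (n + 1)) {W : (Spec (CommRingCat.of A)).Opens} (hi : W ≤ coordU c i) :
    res hi (coordφ c i j) * res (le_top : W ≤ ⊤) (gsec A (c i)) = res le_top (gsec A (c j)) := by
  have h := congrArg (res hi) (coordφ_spec c i j)
  rwa [map_mul, res_res, res_res] at h

include hc in
/-- The data of the morphism to projective space. -/
def coordData : Data n (strHom k A) where
  U := coordU c
  φ := coordφ c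
  cover := by
    have e : coordU c = fun i => (PrimeSpectrum.basicOpen (c i) : (Spec (CommRingCat.of A)).Opens) :=
      funext fun i => basicOpen_eq_of_affine (R := CommRingCat.of A) (c i)
    rw [e]
    exact PrimeSpectrum.iSup_basicOpen_eq_top_iff.2 hc
  self i := Ring.mul_inverse_cancel _ (isUnit_coord c i)
  change i j l W hi hj := by
    have hu : IsUnit (res (le_top : W ≤ ⊤) (gsec A (c i))) := by
      rw [← res_res le_top hi]
      exact (isUnit_coord c i).map _
    refine hu.mul_left_injective ?_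
    dsimp only
    rw [res_coordφ, mul_right_comm, res_coordφ, mul_comm, res_coordφ]
  basicOpen_eq i j := by
    have h := congrArg (Spec (CommRingCat.of A)).basicOpen (coordφ_spec c i j)
    rw [Scheme.basicOpen_mul, Scheme.basicOpen_of_isUnit _ (isUnit_coord c i)] at h
    rw [Scheme.basicOpen_res, inf_of_le_left ((Spec (CommRingCat.of A)).basicOpen_le _)] at h
    exact h

/-- The morphism to projective space. -/
def coordMap : Spec (CommRingCat.of A) ⟶ CohB1.ProjSpace n k :=
  (coordData (k := k) c hc).map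

theorem coordMap_toSpec : coordMap c hc ≫ CohB1.ProjSpace.toSpec n k = strHom k A :=
  Data.map_toSpec _

variable {R : Type u} [CommRing R] [Algebra k R]

/-- A point of the affine scheme. -/
abbrev ptHom (g : A →ₐ[k] R) : Spec (CommRingCat.of R) ⟶ Spec (CommRingCat.of A) :=
  Spec.map (CommRingCat.ofHom g.toRingHom)

theorem ptHom_appTop (g : A →ₐ[k] R) (x : A) : (ptHom g).appTop.hom (gsec A x) = gsec R (g x) :=
  (congr($(Scheme.ΓSpecIso_inv_naturality (CommRingCat.ofHom g.toRingHom)).hom x)).symm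

/-- Evaluation of homogeneous coordinates. -/
def evalPt (g : A →ₐ[k] R) : MvPolynomial (Fin (n + 1)) k →+* Γ(Spec (CommRingCat.of R), ⊤) :=
  eval₂Hom ((gsec R).comp (algebraMap k R)) fun j => gsec R (g (c j))

theorem evalPt_X (g : A →ₐ[k] R) (j : Fin (n + 1)) : evalPt c g (X j) = gsec R (g (c j)) := by
  simp [evalPt]

theorem isUnit_evalPt (g : A →ₐ[k] R) {i : Fin (n + 1)} (hg : IsUnit (g (c i))) :
    IsUnit (evalPt c g (X i)) := by
  rw [evalPt_X]; exact hg.map _

theorem preimage_coordU (g : A →ₐ[k] R) (i : Fin (n + 1)) :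
    ptHom g ⁻¹ᵁ coordU c i = PrimeSpectrum.basicOpen (g (c i)) := by
  rw [coordU, Scheme.preimage_basicOpen_top, ptHom_appTop]
  exact basicOpen_eq_of_affine _

theorem preimage_coordU_eq_top (g : A →ₐ[k] R) {i : Fin (n + 1)} (hg : IsUnit (g (c i))) :
    ptHom g ⁻¹ᵁ coordU c i = ⊤ := by
  rw [preimage_coordU]
  exact top_le_iff.1 fun x _ h => x.2.ne_top (Ideal.eq_top_of_isUnit_mem _ h hg)

theorem comp_coordMap_eq_pt (g : A →ₐ[k] R) (i : Fin (n + 1)) (hg : IsUnit (g (c i))) :
    ptHom g ≫ coordMap (k := k) c hc = ProjPt.pt (CohB1.polyGrading n k) (X_mem i) one_pos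
      (ProjPt.evalAway (CohB1.polyGrading n k) (evalPt c g) (X i) (isUnit_evalPt c g hg)) := by
  let D : Data n (strHom k A) := coordData c hc
  have hr : Set.range (ptHom g) ⊆ Set.range (D.U i).ι := by
    rw [Scheme.Opens.range_ι]
    rintro _ ⟨x, rfl⟩
    exact (preimage_coordU_eq_top c g hg).ge (Opens.mem_top x)
  have ha : IsOpenImmersion.lift (D.U i).ι (ptHom g) hr ≫ (D.U i).ι = ptHom g :=
    IsOpenImmersion.lift_fac _ _ hr
  generalize IsOpenImmersion.lift (D.U i).ι (ptHom g) hr = a at ha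
  have e : ⊤ ≤ ptHom g ⁻¹ᵁ D.U i := (preimage_coordU_eq_top c g hg).ge
  show ptHom g ≫ D.map = _
  conv_lhs => rw [← ha]
  rw [Category.assoc, D.ι_map, Data.piece, ProjPt.comp_pt]
  congr 1
  let f₁ := ((ptHom g).appLE (D.U i) ⊤ e).hom.comp (D.evalU i)
  have hu₁ : IsUnit (f₁ (X i)) := (D.isUnit_evalU i).map ((ptHom g).appLE (D.U i) ⊤ e).hom
  have e1 : a.appTop.hom.comp ((D.U i).topIso.inv.hom.comp (D.g i)) =
      ProjPt.evalAway (CohB1.polyGrading n k) f₁ (X i) hu₁ := by
    rw [Data.g, ← RingHom.comp_assoc, ProjPt.comp_evalAway _ _ _ (X_mem i)]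
    congr 1
    exact RingHom.ext fun p => Data.appTop_topIso_inv a _ ha e _
  rw [e1]
  have hres : ∀ x : Γ(Spec (CommRingCat.of A), ⊤),
      ((ptHom g).appLE (D.U i) ⊤ e).hom (res le_top x) = (ptHom g).appTop.hom x := fun x => by
    rw [appLE_res, Scheme.Hom.appTop, Scheme.Hom.app_eq_appLE]
    rfl
  have hC : ∀ r, evalPt c g (C r) = f₁ (C r) := fun r => by
    simp only [f₁, evalPt, Data.evalU, RingHom.comp_apply, eval₂Hom_C]
    rw [hres]
    simp only [ProjUP.toGlobal, RingHom.comp_apply]
    rw [← g.commutes r, ← ptHom_appTop]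
    congr 1
    exact congr($(Scheme.ΓSpecIso_inv_naturality (CommRingCat.ofHom (algebraMap k A))).hom r)
  have hX : ∀ j, evalPt c g (X j) = gsec R (g (c i)) * f₁ (X j) := fun j => by
    simp only [f₁, Data.evalU, RingHom.comp_apply, eval₂Hom_X', evalPt_X]
    rw [mul_comm, ← ptHom_appTop g (c i), ← ptHom_appTop g (c j), ← hres, ← hres, ← map_mul]
    exact congrArg _ (coordφ_spec c i j).symm
  exact (ProjPt.evalAway_eq_of_twist _ f₁ (evalPt c g) (X_mem i) hu₁ _ _
    (map_eq_pow_mul f₁ (evalPt c g) _ hC hX)).symm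

theorem comp_coordMap_eq_of_smul (g g' : A →ₐ[k] R) (r : R) (hr : IsUnit r)
    (h : ∀ j, g' (c j) = r * g (c j)) (i : Fin (n + 1)) (hg : IsUnit (g (c i))) :
    ptHom g ≫ coordMap (k := k) c hc = ptHom g' ≫ coordMap (k := k) c hc := by
  have hg' : IsUnit (g' (c i)) := h i ▸ hr.mul hg
  rw [comp_coordMap_eq_pt c hc g i hg, comp_coordMap_eq_pt c hc g' i hg']
  congr 1
  refine (ProjPt.evalAway_eq_of_twist _ (evalPt c g) (evalPt c g') (X_mem i) _ _ (gsec R r) ?_).symm
  exact map_eq_pow_mul (evalPt c g) (evalPt c g') (gsec R r) (fun a => by simp [evalPt])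
    fun j => by rw [evalPt_X, evalPt_X, h, map_mul]

theorem cross_of_comp_coordMap_eq (g g' : A →ₐ[k] R)
    (he : ptHom g ≫ coordMap (k := k) c hc = ptHom g' ≫ coordMap (k := k) c hc) (i : Fin (n + 1)) (hg : IsUnit (g (c i)))
    (j l : Fin (n + 1)) : g' (c l) * g (c j) = g' (c j) * g (c l) := by
  have hg' : IsUnit (g' (c i)) := by
    have h := congrArg (· ⁻¹ᵁ Proj.basicOpen (CohB1.polyGrading n k) (X i)) he
    simp only [Scheme.Hom.comp_preimage, coordMap, Data.map_preimage] at h
    change ptHom g ⁻¹ᵁ coordU c i = ptHom g' ⁻¹ᵁ coordU c i at h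
    rw [preimage_coordU_eq_top c g hg, preimage_coordU] at h
    by_contra hu
    obtain ⟨M, hM, hle⟩ := exists_max_ideal_of_mem_nonunits (mem_nonunits_iff.2 hu)
    exact (h.le (Opens.mem_top (⟨M, hM.isPrime⟩ : PrimeSpectrum R))) hle
  rw [comp_coordMap_eq_pt c hc g i hg, comp_coordMap_eq_pt c hc g' i hg'] at he
  have key : ∀ j, ∃ a, gsec R (g (c j)) = a * gsec R (g (c i)) ∧
      gsec R (g' (c j)) = a * gsec R (g' (c i)) := fun j => by
    refine ⟨ProjPt.evalAway _ (evalPt c g) (X i) (isUnit_evalPt c g hg) (ratio i j), ?_, ?_⟩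
    · rw [← evalPt_X, ← evalPt_X, evalAway_ratio]
    · rw [ProjPt.pt_injective _ _ _ he, ← evalPt_X, ← evalPt_X, evalAway_ratio]
  obtain ⟨a, ha, ha'⟩ := key j
  obtain ⟨b, hb, hb'⟩ := key l
  apply (Scheme.ΓSpecIso (CommRingCat.of R)).commRingCatIsoToRingEquiv.symm.injective
  show gsec R _ = gsec R _
  rw [map_mul, map_mul, ha, ha', hb, hb']
  ring

/-- Two points have the same image iff their coordinates are proportional. -/
theorem comp_coordMap_eq_iff (g g' : A →ₐ[k] R) :
    ptHom g ≫ coordMap (k := k) c hc = ptHom g' ≫ coordMap (k := k) c hc ↔ ∃ r : R, ∀ j, g' (c j) = r * g (c j) := by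
  have hgc : Ideal.span (Set.range fun j => g (c j)) = ⊤ := by
    have := congrArg (Ideal.map g) hc
    rwa [Ideal.map_span, ← Set.range_comp, Ideal.map_top] at this
  constructor
  · intro he
    refine exists_ratio_of_cross _ _ hgc fun i j => ?_
    rw [← sub_eq_zero]
    suffices hann : LinearMap.ker (LinearMap.toSpanSingleton R R (g' (c j) * g (c i) - g' (c i) * g (c j))) = ⊤ by
      simpa using (hann ▸ Submodule.mem_top (x := (1 : R)) :
        (1 : R) ∈ LinearMap.ker (LinearMap.toSpanSingleton R R (g' (c j) * g (c i) - g' (c i) * g (c j))))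
    refine Ideal.radical_eq_top.1 (top_le_iff.1 (hgc ▸ Ideal.span_le.2 ?_))
    rintro _ ⟨m, rfl⟩
    let loc : R →ₐ[k] Localization.Away (g (c m)) := IsScalarTower.toAlgHom k R _
    have hgm : IsUnit ((loc.comp g) (c m)) := IsLocalization.Away.algebraMap_isUnit (g (c m))
    have := cross_of_comp_coordMap_eq c hc (loc.comp g) (loc.comp g') (by
      have hh : ∀ f : A →ₐ[k] R, ptHom (loc.comp f) = ptHom loc ≫ ptHom f := fun f => by
        rw [← Spec.map_comp]; rfl
      rw [hh, hh, Category.assoc, Category.assoc, he]) m hgm i j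
    simp only [AlgHom.comp_apply, loc, IsScalarTower.coe_toAlgHom', ← map_mul] at this
    obtain ⟨⟨_, N, rfl⟩, hN⟩ := (IsLocalization.eq_iff_exists (Submonoid.powers (g (c m))) _).1 this
    refine ⟨N, ?_⟩
    simp [mul_sub, sub_eq_zero, hN]
  · rintro ⟨r, h⟩
    have hr : IsUnit r := by
      have hgc' : Ideal.span (Set.range fun j => g' (c j)) = ⊤ := by
        have := congrArg (Ideal.map g') hc
        rwa [Ideal.map_span, ← Set.range_comp, Ideal.map_top] at this
      refine Ideal.span_singleton_eq_top.1 (top_le_iff.1 (hgc' ▸ Ideal.span_le.2 ?_))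
      rintro _ ⟨j, rfl⟩
      exact Ideal.mem_span_singleton.2 ⟨g (c j), h j⟩
    refine (Scheme.affineOpenCoverOfSpanRangeEqTop (R := CommRingCat.of R) (fun j => g (c j)) hgc).openCover.hom_ext
      _ _ fun (m : Fin (n + 1)) => ?_
    let loc : R →ₐ[k] Localization.Away (g (c m)) := IsScalarTower.toAlgHom k R _
    show ptHom loc ≫ _ = ptHom loc ≫ _
    have hh : ∀ f : A →ₐ[k] R, ptHom (loc.comp f) = ptHom loc ≫ ptHom f := fun f => by
      rw [← Spec.map_comp]; rfl
    rw [← Category.assoc, ← Category.assoc, ← hh, ← hh]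
    exact comp_coordMap_eq_of_smul c hc (loc.comp g) (loc.comp g') (loc r) (hr.map loc)
      (fun j => by simp [h]) m (IsLocalization.Away.algebraMap_isUnit (g (c m)))

end GrothLib.Chevalley
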